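import Cfsg.Agent.EqLemmas
import Mathlib.GroupTheory.PGroup
import Mathlib.GroupTheory.OrderOfElement
import Mathlib.GroupTheory.Index
import Mathlib.GroupTheory.QuotientGroup.Basic
import Mathlib.GroupTheory.Rank
import Mathlib.GroupTheory.Exponent
import Mathlib.Data.Nat.Prime.Int
import Mathlib.RingTheory.Int.Basic

/-!
# Actions of groups of order prime to `p` on abelian `p`-groups of small rank

* `fix_of_fix_omega`: an automorphism of order prime to `p` fixing the elements of order `p` of an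
  invariant subgroup fixes the subgroup.
* `exists_regular`: with at most `p ^ 2` solutions of `x ^ p = 1` and exponent above `p`, some
  element has trivial stabiliser.
* `exists_regular_quot`: the same modulo a cyclic subgroup fixed pointwise.
* `card_le_exponent_pow`, `card_omega_le`, `card_omega_quot_le`: bounds from the number of generators.
-/

set_option autoImplicit false

namespace Cfsg.Agent.SmallSection

open Subgroup

variable {p : ℕ} [Fact p.Prime] {A : Type*} [CommGroup A] [Finite A]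

/-- An automorphism moving `y` by a fixed element of order dividing `p` fixes `y`. -/
theorem fix_of_shift (g : MulAut A) (hg : ¬ p ∣ orderOf g) {y w : A} (hy : g y = y * w)
    (hw : g w = w) (hwp : w ^ p = 1) : g y = y := by
  have hit : ∀ n : ℕ, (g ^ n) y = y * w ^ n := by
    intro n
    induction n with
    | zero => simp
    | succ n ih =>
      rw [pow_succ', MulAut.mul_apply, ih, map_mul, map_pow, hy, hw, pow_succ', mul_assoc]
  have h1 := hit (orderOf g)
  rw [pow_orderOf_eq_one, MulAut.one_apply] at h1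
  have h2 : w ^ orderOf g = 1 := mul_left_cancel (h1.symm.trans (mul_one y).symm)
  have hw1 : w = 1 := by
    rw [← orderOf_eq_one_iff]
    exact Nat.eq_one_of_dvd_coprimes ((Fact.out : p.Prime).coprime_iff_not_dvd.2 hg)
      (orderOf_dvd_of_pow_eq_one hwp) (orderOf_dvd_of_pow_eq_one h2)
  rw [hy, hw1, mul_one]

/-- Fixing the elements of order `p` of an invariant subgroup means fixing the subgroup. -/
theorem fix_of_fix_omega (hA : IsPGroup p A) (g : MulAut A) (hg : ¬ p ∣ orderOf g) (F : Subgroup A)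
    (hF : ∀ x ∈ F, g x ∈ F) (hfix : ∀ x ∈ F, x ^ p = 1 → g x = x) : ∀ x ∈ F, g x = x := by
  suffices h : ∀ k, ∀ x ∈ F, x ^ p ^ k = 1 → g x = x by
    intro x hx
    obtain ⟨k, hk⟩ := hA x
    exact h k x hx hk
  intro k
  induction k with
  | zero =>
    intro x _ hx
    rw [pow_zero, pow_one] at hx
    rw [hx, map_one]
  | succ k ih =>
    intro x hx hxk
    rw [pow_succ', pow_mul] at hxk
    have hwp : (x⁻¹ * g x) ^ p = 1 := by
      rw [mul_pow, ← map_pow, ih _ (F.pow_mem hx p) hxk, inv_pow, inv_mul_cancel]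
    exact fix_of_shift g hg (mul_inv_cancel_left x (g x)).symm
      (hfix _ (F.mul_mem (F.inv_mem hx) (hF x hx)) hwp) hwp

theorem eq_one_of_fix_omega (hA : IsPGroup p A) (g : MulAut A) (hg : ¬ p ∣ orderOf g)
    (hfix : ∀ x, x ^ p = 1 → g x = x) : g = 1 :=
  MulEquiv.ext fun x =>
    fix_of_fix_omega hA g hg ⊤ (fun _ _ => Subgroup.mem_top _) (fun x _ => hfix x) x (Subgroup.mem_top x)

/-- An element of trivial stabiliser. -/
theorem exists_regular (hA : IsPGroup p A) (E : Subgroup (MulAut A)) (hE : ¬ p ∣ Nat.card E)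
    (homega : Nat.card (powMonoidHom p : A →* A).ker ≤ p ^ 2) (hexp : ∃ x : A, x ^ p ≠ 1) :
    ∃ z : A, ∀ g ∈ E, g z = z → g = 1 := by
  classical
  have hp : p.Prime := Fact.out
  have hord : ∀ g ∈ E, ¬ p ∣ orderOf g := fun g hg h =>
    hE (h.trans (by rw [← Subgroup.orderOf_mk g hg]; exact orderOf_dvd_natCard _))
  by_contra hcon
  push Not at hcon
  obtain ⟨x, hx⟩ := Monoid.exists_orderOf_eq_exponent (G := A) (Monoid.ExponentExists.of_finite)
  obtain ⟨a, ha⟩ := IsPGroup.iff_orderOf.1 hA x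
  have ha2 : 2 ≤ a := by
    by_contra h
    obtain ⟨y, hy⟩ := hexp
    refine hy (orderOf_dvd_iff_pow_eq_one.1 ((Monoid.order_dvd_exponent y).trans ?_))
    rw [← hx, ha]
    exact (pow_dvd_pow p (show a ≤ 1 by omega)).trans (pow_one p).dvd
  set u := x ^ p ^ (a - 1) with hu
  have hup : u ^ p = 1 := by
    rw [hu, ← pow_mul, ← pow_succ, Nat.sub_add_cancel (by omega : 1 ≤ a), ← ha, pow_orderOf_eq_one]
  have hu1 : u ≠ 1 := fun h => by
    have h2 := Nat.le_of_dvd (pow_pos hp.pos _) (orderOf_dvd_of_pow_eq_one h)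
    rw [ha] at h2
    have := (Nat.pow_le_pow_iff_right hp.one_lt).1 h2
    omega
  have huo : orderOf u = p := orderOf_eq_prime hup hu1
  obtain ⟨g, hgE, hgx, hg1⟩ := hcon x
  have hgu : g u = u := by rw [hu, map_pow, hgx]
  obtain ⟨y, hyp, hyu⟩ : ∃ y : A, y ^ p = 1 ∧ y ∉ Subgroup.zpowers u := by
    by_contra h
    push Not at h
    refine hg1 (eq_one_of_fix_omega hA g (hord g hgE) fun w hw => ?_)
    obtain ⟨i, rfl⟩ := Subgroup.mem_zpowers_iff.1 (h w hw)
    rw [map_zpow, hgu]
  have hspan : ∀ w : A, w ^ p = 1 → w ∈ Subgroup.zpowers u ⊔ Subgroup.zpowers y := by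
    set K := Subgroup.zpowers u ⊔ Subgroup.zpowers y
    have hK : K ≤ (powMonoidHom p : A →* A).ker :=
      sup_le (Subgroup.zpowers_le.2 hup) (Subgroup.zpowers_le.2 hyp)
    have hlt : Subgroup.zpowers u < K := lt_of_le_of_ne le_sup_left fun h =>
      hyu (h ▸ Subgroup.mem_sup_right (Subgroup.mem_zpowers y))
    obtain ⟨k, hk⟩ := (hA.to_subgroup K).exists_card_eq
    have h2 : 2 ≤ k := by
      by_contra h
      refine hlt.ne (Subgroup.eq_of_le_of_card_ge le_sup_left ?_)
      rw [Nat.card_zpowers, huo, hk]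
      exact (Nat.pow_le_pow_right hp.pos (show k ≤ 1 by omega)).trans_eq (pow_one p)
    have hKeq : K = (powMonoidHom p : A →* A).ker := Subgroup.eq_of_le_of_card_ge hK
      (homega.trans ((Nat.pow_le_pow_right hp.pos h2).trans_eq hk.symm))
    exact fun w hw => hKeq ▸ hw
  have hfull : ∀ h ∈ E, h u = u → h y = y → h = 1 := fun h hhE hhu hhy =>
    eq_one_of_fix_omega hA h (hord h hhE) fun w hw => by
      obtain ⟨_, ⟨i, rfl⟩, _, ⟨j, rfl⟩, rfl⟩ := Subgroup.mem_sup.1 (hspan w hw)
      simp only [map_mul, map_zpow, hhu, hhy]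
  obtain ⟨g', hg'E, hg'z, hg'1⟩ := hcon (x * y)
  have hzu : (x * y) ^ p ^ (a - 1) = u := by
    rw [mul_pow, ← hu, show y ^ p ^ (a - 1) = 1 from ?_, mul_one]
    obtain ⟨c, hc⟩ := dvd_pow_self p (show a - 1 ≠ 0 by omega)
    rw [hc, pow_mul, hyp, one_pow]
  have hg'u : g' u = u := by rw [← hzu, map_pow, hg'z]
  -- the two stabilisers commute
  have hcomm : g * g' = g' * g := by
    have hdec : ∀ h : MulAut A, ∃ i j : ℤ, h y = u ^ i * y ^ j := fun h => by
      obtain ⟨_, ⟨i, rfl⟩, _, ⟨j, rfl⟩, hij⟩ := Subgroup.mem_sup.1 (hspan (h y) (by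
        rw [← map_pow, hyp, map_one]))
      exact ⟨i, j, hij.symm⟩
    obtain ⟨i, j, hij⟩ := hdec g
    obtain ⟨k, l, hkl⟩ := hdec g'
    have h1 : (g * g') y = (g' * g) y * u ^ ((k + i * l) - (i + k * j)) := by
      simp only [MulAut.mul_apply, hij, hkl, map_mul, map_zpow, hgu, hg'u, mul_zpow, ← zpow_mul]
      rw [zpow_sub, zpow_add, zpow_add, mul_comm j l]
      simp only [← div_eq_mul_inv, mul_div_assoc']
      rw [eq_div_iff_mul_eq']
      simp only [mul_comm, mul_left_comm, mul_assoc]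
    set w := (g' * g)⁻¹ * (g * g') with hw
    have hwu : w u = u := by
      simp only [hw, mul_inv_rev, MulAut.mul_apply]
      rw [hg'u, hgu]
      have e1 : g'⁻¹ u = u := by conv_lhs => rw [← hg'u, MulAut.inv_apply_self]
      have e2 : g⁻¹ u = u := by conv_lhs => rw [← hgu, MulAut.inv_apply_self]
      rw [e1, e2]
    have hwy : w y = y * u ^ ((k + i * l) - (i + k * j)) := by
      rw [hw, MulAut.mul_apply, h1, map_mul, map_zpow, MulAut.inv_apply_self]
      congr 2
      conv_lhs => arg 2; rw [show u = (g' * g) u by rw [MulAut.mul_apply, hgu, hg'u]]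
      rw [MulAut.inv_apply_self]
    have hwE : w ∈ E := E.mul_mem (E.inv_mem (E.mul_mem hg'E hgE)) (E.mul_mem hgE hg'E)
    have := hfull w hwE hwu (fix_of_shift w (hord w hwE) hwy (by rw [map_zpow, hwu])
      (by rw [← zpow_natCast, ← zpow_mul, mul_comm, zpow_mul, zpow_natCast, hup, one_zpow]))
    exact (inv_mul_eq_one.1 this).symm
  -- so the first fixes the second element
  let F : Subgroup A := MonoidHom.eqLocus (g' : A ≃* A).toMonoidHom (MonoidHom.id A)
  have hF : ∀ w, w ∈ F ↔ g' w = w := fun w => Iff.rfl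
  have hFu : ∀ w ∈ F, w ^ p = 1 → g w = w := by
    intro w hw hwp
    obtain ⟨_, ⟨i, rfl⟩, _, ⟨j, rfl⟩, rfl⟩ := Subgroup.mem_sup.1 (hspan w hwp)
    have hj : g' (y ^ j) = y ^ j := by
      have h := (hF _).1 hw
      simp only [map_mul, map_zpow, hg'u] at h
      simpa [map_zpow] using h
    by_cases hjp : (p : ℤ) ∣ j
    · obtain ⟨c, rfl⟩ := hjp
      simp only [zpow_mul, zpow_natCast, hyp, one_zpow, mul_one, map_zpow, hgu]
    · refine absurd (hfull g' hg'E hg'u ?_) hg'1
      obtain ⟨s, t, hst⟩ := ((Nat.prime_iff_prime_int.mp hp).coprime_iff_not_dvd.2 hjp).symm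
      have hy' : y = (y ^ j) ^ s * (y ^ p) ^ t := by
        conv_lhs => rw [← zpow_one y, ← hst]
        rw [zpow_add, mul_comm s j, zpow_mul, mul_comm t (p : ℤ), zpow_mul, zpow_natCast]
      rw [hy', map_mul, map_zpow, hj, hyp, one_zpow, map_one]
  have hgz : g (x * y) = x * y := fix_of_fix_omega hA g (hord g hgE) F (fun w hw => by
    rw [hF] at hw ⊢
    conv_rhs => rw [← hw]
    rw [← MulAut.mul_apply, ← MulAut.mul_apply, hcomm]) hFu _ hg'z
  refine hg1 (hfull g hgE hgu ?_)
  rwa [map_mul, hgx, mul_right_inj] at hgz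

/-- An element of trivial stabiliser modulo a cyclic subgroup fixed pointwise. -/
theorem exists_regular_quot (hA : IsPGroup p A) (E : Subgroup (MulAut A)) (hE : ¬ p ∣ Nat.card E)
    {x : A} (hx : ∀ g ∈ E, g x = x)
    (homega : Nat.card (powMonoidHom p : (A ⧸ zpowers x) →* (A ⧸ zpowers x)).ker ≤ p ^ 2)
    (hexp : ∃ y : A ⧸ zpowers x, y ^ p ≠ 1) :
    ∃ z : A, ∀ g ∈ E, g z = z → g = 1 := by
  classical
  have hmap : ∀ g : E, (zpowers x).map ((g : MulAut A) : A ≃* A).toMonoidHom = zpowers x := fun g => by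
    rw [MonoidHom.map_zpowers]
    exact congrArg zpowers (hx g g.2)
  let φ : E →* MulAut (A ⧸ zpowers x) :=
    { toFun := fun g => QuotientGroup.congr _ _ (g : MulAut A) (hmap g)
      map_one' := MulEquiv.ext fun q => QuotientGroup.induction_on q fun a => rfl
      map_mul' := fun g h => MulEquiv.ext fun q => QuotientGroup.induction_on q fun a => rfl }
  have hinj : Function.Injective φ := (injective_iff_map_eq_one φ).2 fun g hg => by
    have hgord : ¬ p ∣ orderOf (g : MulAut A) := fun h =>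
      hE (h.trans (by rw [Subgroup.orderOf_coe]; exact orderOf_dvd_natCard _))
    refine Subtype.ext (eq_one_of_fix_omega hA _ hgord fun y hy => ?_)
    have h1 : ((g : MulAut A) y : A ⧸ zpowers x) = (y : A ⧸ zpowers x) :=
      congrArg (fun e : MulAut (A ⧸ zpowers x) => e (y : A ⧸ zpowers x)) hg
    have hw : y⁻¹ * (g : MulAut A) y ∈ zpowers x := QuotientGroup.eq.1 h1.symm
    refine fix_of_shift _ hgord (mul_inv_cancel_left y ((g : MulAut A) y)).symm ?_ ?_
    · obtain ⟨i, hi⟩ := mem_zpowers_iff.1 hw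
      rw [← hi, map_zpow, hx g g.2]
    · rw [mul_pow, ← map_pow, inv_pow, hy, map_one, inv_one, one_mul]
  have hcard : Nat.card φ.range = Nat.card E :=
    Nat.card_congr (MonoidHom.ofInjective hinj).toEquiv.symm
  obtain ⟨z, hz⟩ := exists_regular (hA.to_quotient _) φ.range (hcard ▸ hE) homega hexp
  obtain ⟨z, rfl⟩ := QuotientGroup.mk'_surjective _ z
  refine ⟨z, fun g hg hgz => congrArg Subtype.val (hinj ((hz (φ ⟨g, hg⟩) ⟨_, rfl⟩ ?_).trans (map_one φ).symm))⟩
  show ((g z : A) : A ⧸ zpowers x) = (z : A ⧸ zpowers x)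
  rw [hgz]

theorem card_closure_le {n : ℕ} (hn : 0 < n) (hA : ∀ a : A, orderOf a ≤ n) (S : Finset A) :
    Nat.card (closure (S : Set A)) ≤ n ^ S.card := by
  classical
  induction S using Finset.induction_on with
  | empty => simp
  | @insert a S ha ih =>
    rw [Finset.coe_insert, Set.insert_eq, Subgroup.closure_union, ← zpowers_eq_closure, Finset.card_insert_of_notMem ha,
      pow_succ']
    refine le_trans ?_ (Nat.mul_le_mul (hA a) ih)
    rw [← Nat.card_zpowers, ← Nat.card_prod]
    refine Nat.card_le_card_of_surjective (fun q : zpowers a × closure (S : Set A) =>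
      (⟨(q.1 : A) * q.2, Subgroup.mul_mem_sup q.1.2 q.2.2⟩ : (zpowers a ⊔ closure (S : Set A) : Subgroup A))) ?_
    rintro ⟨w, hw⟩
    obtain ⟨b, hb, c, hc, rfl⟩ := mem_sup.1 hw
    exact ⟨(⟨b, hb⟩, ⟨c, hc⟩), rfl⟩

theorem card_le_exponent_pow : Nat.card A ≤ Monoid.exponent A ^ Group.rank A := by
  classical
  obtain ⟨S, hS, htop⟩ := Group.rank_spec A
  have h := card_closure_le (Nat.pos_of_ne_zero Monoid.exponent_ne_zero_of_finite)
    (fun a => Nat.le_of_dvd (Nat.pos_of_ne_zero Monoid.exponent_ne_zero_of_finite)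
      (Monoid.order_dvd_exponent a)) S
  rwa [htop, hS, card_top] at h

omit [Fact p.Prime] in
theorem card_ker_eq_index : Nat.card (powMonoidHom p : A →* A).ker = (powMonoidHom p : A →* A).range.index := by
  have h1 := (powMonoidHom p : A →* A).ker.card_mul_index
  rw [Subgroup.index_ker] at h1
  have h2 := (powMonoidHom p : A →* A).range.card_mul_index
  exact Nat.eq_of_mul_eq_mul_left (Nat.card_pos (α := (powMonoidHom p : A →* A).range)) (by
    rw [mul_comm, h1, h2])

theorem index_range_le : (powMonoidHom p : A →* A).range.index ≤ p ^ Group.rank A := by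
  classical
  have hp : p.Prime := Fact.out
  set R := (powMonoidHom p : A →* A).range
  obtain ⟨S, hS, htop⟩ := Group.rank_spec A
  have h := card_closure_le (A := A ⧸ R) hp.pos (fun a => Nat.le_of_dvd hp.pos
    (orderOf_dvd_of_pow_eq_one (QuotientGroup.induction_on a fun b => by
      rw [← QuotientGroup.mk_pow, QuotientGroup.eq_one_iff]
      exact ⟨b, rfl⟩))) (S.image (QuotientGroup.mk' R))
  rw [Finset.coe_image, ← MonoidHom.map_closure, htop, map_top_of_surjective _ (QuotientGroup.mk'_surjective R),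
    card_top] at h
  rw [Subgroup.index]
  exact h.trans (Nat.pow_le_pow_right hp.pos (Finset.card_image_le.trans hS.le))

theorem card_omega_le : Nat.card (powMonoidHom p : A →* A).ker ≤ p ^ Group.rank A :=
  card_ker_eq_index.trans_le index_range_le

theorem card_omega_quot_le (hA : IsPGroup p A) {x : A} (hx : x ∉ (powMonoidHom p : A →* A).range) :
    p * Nat.card (powMonoidHom p : (A ⧸ zpowers x) →* (A ⧸ zpowers x)).ker ≤ p ^ Group.rank A := by
  classical
  set R := (powMonoidHom p : A →* A).range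
  have hpre : (powMonoidHom p : (A ⧸ zpowers x) →* (A ⧸ zpowers x)).range =
      R.map (QuotientGroup.mk' (zpowers x)) := by
    ext q
    constructor
    · rintro ⟨w, rfl⟩
      obtain ⟨w, rfl⟩ := QuotientGroup.mk'_surjective _ w
      exact ⟨w ^ p, ⟨w, rfl⟩, map_pow _ _ _⟩
    · rintro ⟨_, ⟨w, rfl⟩, rfl⟩
      exact ⟨(w : A ⧸ zpowers x), (map_pow (QuotientGroup.mk' (zpowers x)) w p).symm⟩
  rw [card_ker_eq_index, hpre, Subgroup.index_map,
    MonoidHom.range_eq_top.2 (QuotientGroup.mk'_surjective _), Subgroup.index_top, mul_one, QuotientGroup.ker_mk']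
  have h1 : p ≤ R.relIndex (R ⊔ zpowers x) := by
    haveI : Fintype A := Fintype.ofFinite A
    obtain ⟨k, hk⟩ := (hA.to_subgroup (R ⊔ zpowers x)).index (R.subgroupOf (R ⊔ zpowers x))
    rw [Subgroup.relIndex, hk]
    refine Nat.le_self_pow (fun h0 => ?_) p
    rw [h0, pow_zero, Subgroup.index_eq_one, Subgroup.subgroupOf_eq_top] at hk
    exact hx (hk (mem_sup_right (mem_zpowers x)))
  calc p * (R ⊔ zpowers x).index ≤ R.relIndex (R ⊔ zpowers x) * (R ⊔ zpowers x).index :=
        Nat.mul_le_mul_right _ h1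
    _ = R.index := Subgroup.relIndex_mul_index le_sup_left
    _ ≤ _ := index_range_le

theorem notMem_range_of_max (hA : IsPGroup p A) {x : A} (hx : orderOf x = Monoid.exponent A)
    (hne : Monoid.exponent A ≠ 1) : x ∉ (powMonoidHom p : A →* A).range := by
  rintro ⟨y, hy⟩
  have hy' : y ^ p = x := hy
  have hdvd : orderOf y ∣ orderOf x := hx ▸ Monoid.order_dvd_exponent y
  obtain ⟨k, hk⟩ := IsPGroup.iff_orderOf.1 hA y
  rcases k with _ | k
  · rw [pow_zero, orderOf_eq_one_iff] at hk
    rw [← hy', hk, one_pow, orderOf_one] at hx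
    exact hne hx.symm
  · have h1 : orderOf x ∣ p ^ k := by
      refine orderOf_dvd_of_pow_eq_one ?_
      rw [← hy', ← pow_mul, ← pow_succ', ← hk, pow_orderOf_eq_one]
    have h2 := (Nat.pow_dvd_pow_iff_le_right (Fact.out : p.Prime).one_lt).1 (hk ▸ hdvd.trans h1)
    omega

end Cfsg.Agent.SmallSection
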