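import Cfsg.Agent.Lib.SecondMain.CycloForm
import Mathlib.LinearAlgebra.Matrix.Adjugate
import Mathlib.LinearAlgebra.FreeModule.PID
import Mathlib.LinearAlgebra.Matrix.ToLin

/-!
# The smallest non-zero value of a contribution form of defect one

`le_bil`: if `c` is an integral symmetric matrix with `c * c = p * c`, trace `p * l`, rank one modulo
`p` and diagonal prime to `p`, then a non-zero value `bil c v v` is at least `l`.

The kernel lattice has a Gram determinant dividing `p`; after adjoining `v` it has at least `l`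
non-singular maximal minors.
-/

set_option autoImplicit false

namespace Cfsg.Agent.SmallSection

open Matrix Finset CycloTrace

variable {ι κ : Type*} [Fintype ι] [DecidableEq ι] [Fintype κ] [DecidableEq κ]

omit [DecidableEq ι] in
/-- The Gram determinant as a sum over the square submatrices. -/
theorem factorial_mul_gram (A : Matrix ι κ ℤ) :
    ((Fintype.card κ).factorial : ℤ) * (Aᵀ * A).det =
      ∑ f : κ → ι, (A.submatrix f id).det ^ 2 := by
  have h1 : (Aᵀ * A).det = ∑ f : κ → ι, (A.submatrix f id).det * ∏ a, A (f a) a := by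
    rw [det_apply']
    simp only [Matrix.mul_apply, transpose_apply, prod_univ_sum, Fintype.piFinset_univ, mul_sum]
    rw [sum_comm]
    refine sum_congr rfl fun f _ => ?_
    rw [det_apply', sum_mul]
    refine Fintype.sum_equiv (Equiv.inv (Equiv.Perm κ)) _ _ fun σ => ?_
    simp only [Equiv.inv_apply, submatrix_apply, id_eq, Equiv.Perm.sign_inv, prod_mul_distrib]
    rw [mul_assoc]
    congr 2
    refine Fintype.prod_equiv σ _ _ fun a => ?_
    simp
  have h2 : ∀ τ : Equiv.Perm κ, (Aᵀ * A).det =
      ∑ f : κ → ι, (A.submatrix f id).det * ((Equiv.Perm.sign τ : ℤ) * ∏ a, A (f (τ a)) a) := by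
    intro τ
    rw [h1]
    refine (Fintype.sum_equiv (Equiv.arrowCongr τ (Equiv.refl ι)).symm _ _ fun f => ?_).symm
    have hd : (A.submatrix ((Equiv.arrowCongr τ (Equiv.refl ι)).symm f) id).det
        = (Equiv.Perm.sign τ : ℤ) * (A.submatrix f id).det := by
      exact det_permute τ (A.submatrix f id)
    rw [hd]
    have he : ∀ a, ((Equiv.arrowCongr τ (Equiv.refl ι)).symm f) a = f (τ a) := fun a => rfl
    simp only [he]
    ring
  calc ((Fintype.card κ).factorial : ℤ) * (Aᵀ * A).det
      = ∑ τ : Equiv.Perm κ, (Aᵀ * A).det := by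
        rw [sum_const, card_univ, Fintype.card_perm, nsmul_eq_mul]
    _ = ∑ f : κ → ι, (A.submatrix f id).det * ∑ τ : Equiv.Perm κ,
          ((Equiv.Perm.sign τ : ℤ) * ∏ a, A (f (τ a)) a) := by
        simp only [mul_sum]
        rw [sum_congr rfl fun τ _ => h2 τ, sum_comm]
    _ = _ := by
        refine sum_congr rfl fun f _ => ?_
        rw [sq, det_apply' (A.submatrix f id)]
        rfl

/-- Every non-zero row gives a further non-singular maximal minor. -/
theorem le_gram (A : Matrix ι κ ℤ) (hrow : ∀ i, A i ≠ 0) (hA : (Aᵀ * A).det ≠ 0) :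
    ((Fintype.card ι + 1 - Fintype.card κ : ℕ) : ℤ) ≤ (Aᵀ * A).det := by
  have hfac : (0 : ℤ) < (Fintype.card κ).factorial := by exact_mod_cast Nat.factorial_pos _
  obtain ⟨f₀, hf₀⟩ : ∃ f : κ → ι, (A.submatrix f id).det ≠ 0 := by
    by_contra h
    push Not at h
    have h1 := factorial_mul_gram A
    rw [sum_eq_zero fun f _ => by rw [h f]; norm_num] at h1
    exact hA ((mul_eq_zero.mp h1).resolve_left hfac.ne')
  have hinj : ∀ f : κ → ι, (A.submatrix f id).det ≠ 0 → Function.Injective f := fun f hf a c hac => by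
    by_contra hne
    exact hf (det_zero_of_row_eq hne (by funext j; simp [hac]))
  set T := (univ : Finset ι) \ univ.image f₀
  have hsw : ∀ i ∈ T, ∃ a, (A.submatrix (Function.update f₀ a i) id).det ≠ 0 := by
    intro i _
    by_contra h
    push Not at h
    refine hrow i (funext fun j => ?_)
    have hz : cramer (A.submatrix f₀ id)ᵀ (A i) = 0 := funext fun a => by
      rw [cramer_transpose_apply]
      refine Eq.trans (congrArg det ?_) (h a)
      funext r s
      by_cases hr : r = a
      · subst hr; simp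
      · simp [Function.update_of_ne hr, updateRow_ne hr]
    have h1 := congrFun (mulVec_cramer (A.submatrix f₀ id)ᵀ (A i)) j
    rw [hz, mulVec_zero, det_transpose] at h1
    simpa [hf₀] using h1.symm
  choose g hg using hsw
  let F : Option T → κ → ι := fun o => o.elim f₀ fun i => Function.update f₀ (g i.1 i.2) i.1
  have hF : ∀ o, (A.submatrix (F o) id).det ≠ 0 := by
    rintro (_ | i)
    · exact hf₀
    · exact hg i.1 i.2
  have himg : ∀ i : T, ∀ x, x ∈ univ.image (F (some i)) → x ∈ univ.image f₀ ∨ x = i.1 := by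
    intro i x hx
    obtain ⟨a, -, rfl⟩ := mem_image.mp hx
    by_cases ha : a = g i.1 i.2
    · subst ha; exact Or.inr (by simp [F])
    · exact Or.inl (mem_image.mpr ⟨a, mem_univ _, by simp [F, Function.update_of_ne ha]⟩)
  have hmem : ∀ i : T, i.1 ∈ univ.image (F (some i)) := fun i =>
    mem_image.mpr ⟨g i.1 i.2, mem_univ _, by simp [F]⟩
  have hnot : ∀ i : T, i.1 ∉ univ.image f₀ := fun i => (mem_sdiff.mp i.2).2
  have hFimg : ∀ o o', univ.image (F o) = univ.image (F o') → o = o' := by
    rintro (_ | i) (_ | i') h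
    · rfl
    · exact absurd (h ▸ hmem i') (hnot i')
    · exact absurd (h ▸ hmem i) (hnot i)
    · rcases himg i' i.1 (h ▸ hmem i) with h1 | h1
      · exact absurd h1 (hnot i)
      · exact congrArg some (Subtype.ext h1)
  let Φ : Option T × Equiv.Perm κ → (κ → ι) := fun q => F q.1 ∘ q.2
  have hΦ : Function.Injective Φ := by
    rintro ⟨o, τ⟩ ⟨o', τ'⟩ h
    have h1 : o = o' := by
      refine hFimg _ _ ?_
      have h2 : univ.image (F o ∘ τ) = univ.image (F o' ∘ τ') := congrArg (univ.image ·) h
      rwa [← image_image, image_univ_equiv, ← image_image, image_univ_equiv] at h2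
    subst h1
    exact Prod.ext rfl (Equiv.ext fun a => hinj _ (hF o) (congrFun h a))
  have hone : ∀ q : Option T × Equiv.Perm κ, 1 ≤ (A.submatrix (Φ q) id).det ^ 2 := fun q => by
    have hne : (A.submatrix (Φ q) id).det ≠ 0 := by
      rw [show A.submatrix (Φ q) id = (A.submatrix (F q.1) id).submatrix q.2 id from rfl, det_permute]
      exact mul_ne_zero (Units.ne_zero _) (hF q.1)
    have := sq_pos_of_ne_zero hne
    omega
  have hcard : Fintype.card (Option T) = Fintype.card ι + 1 - Fintype.card κ := by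
    rw [Fintype.card_option, Fintype.card_coe, card_sdiff_of_subset (subset_univ _),
      card_image_of_injective _ (hinj f₀ hf₀), card_univ, card_univ]
    have := Fintype.card_le_of_injective f₀ (hinj f₀ hf₀)
    omega
  refine le_of_mul_le_mul_left ?_ hfac
  calc ((Fintype.card κ).factorial : ℤ) * ((Fintype.card ι + 1 - Fintype.card κ : ℕ) : ℤ)
      = ∑ _q : Option T × Equiv.Perm κ, (1 : ℤ) := by
        rw [sum_const, card_univ, Fintype.card_prod, hcard, Fintype.card_perm, nsmul_eq_mul, mul_one]
        push_cast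
        ring
    _ ≤ ∑ q, (A.submatrix (Φ q) id).det ^ 2 := sum_le_sum fun q _ => hone q
    _ = ∑ f ∈ univ.image Φ, (A.submatrix f id).det ^ 2 :=
        (sum_image (f := fun f => (A.submatrix f id).det ^ 2) fun a _ c _ h => hΦ h).symm
    _ ≤ ∑ f : κ → ι, (A.submatrix f id).det ^ 2 :=
        sum_le_sum_of_subset_of_nonneg (subset_univ _) fun f _ _ => sq_nonneg _
    _ = _ := (factorial_mul_gram A).symm

omit [Fintype ι] [DecidableEq ι] in
/-- A determinant congruent to that of an outer product. -/
theorem pow_dvd_det_of_rank_one {p : ℕ} (hp : p.Prime) (E : Matrix κ κ ℤ) (x y : κ → ℤ)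
    (h : ∀ i j, (p : ℤ) ∣ E i j - x i * y j) : (p : ℤ) ^ (Fintype.card κ - 1) ∣ E.det := by
  by_cases hx : ∀ i, (p : ℤ) ∣ x i
  · choose N hN using fun i j => (dvd_sub_left (dvd_mul_of_dvd_left (hx i) (y j))).mp (h i j)
    have hE : E = Matrix.of fun i j => (p : ℤ) * N i j := by ext i j; exact hN i j
    rw [hE, show (Matrix.of fun i j => (p : ℤ) * N i j).det = (∏ _i : κ, (p : ℤ)) * (Matrix.of N).det
      from det_mul_column (fun _ => (p : ℤ)) (Matrix.of N), prod_const, card_univ]
    exact dvd_mul_of_dvd_left (pow_dvd_pow _ (Nat.sub_le _ _)) _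
  · push Not at hx
    obtain ⟨i₀, hi₀⟩ := hx
    have hcop : IsCoprime (x i₀) (p : ℤ) :=
      ((Nat.prime_iff_prime_int.mp hp).coprime_iff_not_dvd.mpr hi₀).symm
    obtain ⟨u, w, huw⟩ := hcop
    let c : κ → ℤ := fun i => if i = i₀ then 0 else u * x i
    let B : Matrix κ κ ℤ := Matrix.of fun i j => E i j - c i * E i₀ j
    have hdet : E.det = B.det := by
      refine det_eq_of_forall_row_eq_smul_add_const c i₀ (by simp [c]) fun i j => ?_
      simp [B, c]
    have hB : ∀ i j, (if i = i₀ then (1 : ℤ) else p) ∣ B i j := by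
      intro i j
      by_cases hi : i = i₀
      · simp [hi]
      · rw [if_neg hi]
        obtain ⟨a, ha⟩ := h i j
        obtain ⟨a', ha'⟩ := h i₀ j
        refine ⟨a + w * x i * y j - u * x i * a', ?_⟩
        simp only [B, c, Matrix.of_apply, if_neg hi]
        linear_combination ha - u * x i * ha' - x i * y j * huw
    choose N hN using hB
    have hE : B = Matrix.of fun i j => (if i = i₀ then (1 : ℤ) else p) * N i j := by ext i j; exact hN i j
    rw [hdet, hE, show (Matrix.of fun i j => (if i = i₀ then (1 : ℤ) else p) * N i j).det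
      = (∏ i : κ, if i = i₀ then (1 : ℤ) else p) * (Matrix.of N).det from det_mul_column _ (Matrix.of N)]
    refine dvd_mul_of_dvd_left (dvd_of_eq ?_) _
    rw [prod_ite, prod_const_one, one_mul, prod_const, filter_ne', card_erase_of_mem (mem_univ _), card_univ]

omit [DecidableEq κ] [Fintype κ] in
/-- The smallest non-zero value of the form. -/
theorem le_bil {p l : ℕ} (hp : p.Prime) (c : ι → ι → ℤ) (hsym : ∀ i j, c i j = c j i)
    (hsq : ∀ i j, ∑ k, c i k * c k j = (p : ℤ) * c i j) (htr : ∑ i, c i i = (p : ℤ) * l)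
    (hdiag : ∀ i, ¬ (p : ℤ) ∣ c i i)
    (hmin : ∀ a a' e e', (p : ℤ) ∣ c a a' * c e e' - c a e' * c e a')
    (v : ι → ℤ) (hv : bil c v v ≠ 0) : (l : ℤ) ≤ bil c v v := by
  classical
  have hp0 : (0 : ℤ) < p := by exact_mod_cast hp.pos
  set C : Matrix ι ι ℤ := Matrix.of c with hC
  have hCC : C * C = (p : ℤ) • C := by
    ext i j
    simpa [Matrix.mul_apply, hC] using hsq i j
  have hCt : Cᵀ = C := by ext i j; exact hsym j i
  set W := LinearMap.ker C.mulVecLin
  obtain ⟨t, bW⟩ := Submodule.basisOfPid (Pi.basisFun ℤ ι) W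
  set X : Matrix ι (Fin t) ℤ := Matrix.of fun i a => (bW a : ι → ℤ) i
  have hCX : C * X = 0 := by
    ext i a
    exact congrFun (LinearMap.mem_ker.mp (bW a).2) i
  have hXrep : ∀ w : W, X *ᵥ (bW.repr w) = (w : ι → ℤ) := fun w => by
    funext i
    rw [← congrFun (congrArg (fun x : W => (x : ι → ℤ)) (bW.sum_repr w)) i]
    simp only [Submodule.coe_sum, Finset.sum_apply, SetLike.val_smul, Pi.smul_apply, smul_eq_mul,
      mulVec, dotProduct]
    exact sum_congr rfl fun a _ => mul_comm _ _
  -- a left inverse of the basis matrix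
  obtain ⟨s, hs⟩ := Module.projective_lifting_property C.mulVecLin.rangeRestrict
    (LinearMap.id (R := ℤ) (M := LinearMap.range C.mulVecLin)) C.mulVecLin.surjective_rangeRestrict
  let π : (ι → ℤ) →ₗ[ℤ] W := LinearMap.codRestrict W
    (LinearMap.id - s ∘ₗ C.mulVecLin.rangeRestrict) fun w => by
      have h1 := congrArg Subtype.val (LinearMap.congr_fun hs (C.mulVecLin.rangeRestrict w))
      rw [LinearMap.mem_ker, LinearMap.sub_apply, map_sub, LinearMap.id_apply, sub_eq_zero]
      exact h1.symm
  have hπ : ∀ w : W, π (w : ι → ℤ) = w := fun w => Subtype.ext (by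
    have h1 : C.mulVecLin.rangeRestrict (w : ι → ℤ) = 0 := Subtype.ext (LinearMap.mem_ker.mp w.2)
    simp [π, h1])
  let Lf : (ι → ℤ) →ₗ[ℤ] (Fin t → ℤ) := bW.equivFun.toLinearMap ∘ₗ π
  set L := LinearMap.toMatrix' Lf
  have hL : ∀ w : W, L *ᵥ (w : ι → ℤ) = bW.repr w := fun w => by
    rw [LinearMap.toMatrix'_mulVec]
    simp [Lf, hπ]
  have hLX : L * X = 1 := by
    ext a a'
    have h1 := congrFun (hL (bW a')) a
    rw [bW.repr_self, Finsupp.single_apply] at h1
    rw [Matrix.one_apply, Matrix.mul_apply]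
    rw [mulVec, dotProduct] at h1
    refine h1.trans ?_
    simp [eq_comm]
  set P : Matrix ι ι ℤ := (p : ℤ) • 1 - C with hP
  have hXY : X * (L * P) = P := by
    ext i j
    let w : W := ⟨fun r => P r j, by
      rw [LinearMap.mem_ker]
      funext r
      have h1 : C * P = 0 := by rw [hP, mul_sub, Matrix.mul_smul, mul_one, hCC, sub_self]
      exact congrFun (congrFun h1 r) j⟩
    have h1 := congrFun (hXrep w) i
    rw [← hL] at h1
    exact h1
  set G := Xᵀ * X
  set E := L * P * Lᵀ
  have hXP : Xᵀ * P = (p : ℤ) • Xᵀ := by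
    rw [hP, Matrix.mul_sub, Matrix.mul_smul, Matrix.mul_one, ← hCt, ← Matrix.transpose_mul, hCX,
      Matrix.transpose_zero, sub_zero]
  have hGY : G * (L * P) = (p : ℤ) • Xᵀ := by rw [Matrix.mul_assoc, hXY, hXP]
  have hGE : G * E = (p : ℤ) • 1 := by
    rw [← Matrix.mul_assoc, hGY, Matrix.smul_mul, ← Matrix.transpose_mul, hLX, Matrix.transpose_one]
  have hdet : G.det * E.det = (p : ℤ) ^ t := by
    rw [← det_mul, hGE, det_smul, det_one, mul_one, Fintype.card_fin]
  -- trace
  have ht : (t : ℤ) + l = Fintype.card ι := by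
    have h1 : (L * P) * X = (p : ℤ) • 1 := by
      rw [hP, Matrix.mul_assoc, Matrix.sub_mul, Matrix.smul_mul, Matrix.one_mul, hCX, sub_zero,
        Matrix.mul_smul, hLX]
    have h2 := Matrix.trace_mul_comm X (L * P)
    rw [hXY, h1, hP, trace_sub, trace_smul, trace_one, trace_smul, trace_one, Fintype.card_fin,
      show C.trace = ∑ i, c i i from rfl, htr] at h2
    simp only [smul_eq_mul] at h2
    exact mul_left_cancel₀ hp0.ne' (by linear_combination -h2)
  -- divisibility
  have hdvd : G.det ∣ (p : ℤ) := by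
    rcases Nat.eq_zero_or_pos t with rfl | ht0
    · simp
    obtain ⟨a₀⟩ : Nonempty ι := Fintype.card_pos_iff.mp (by omega)
    obtain ⟨u, w, huw⟩ := ((Nat.prime_iff_prime_int.mp hp).coprime_iff_not_dvd.mpr (hdiag a₀)).symm
    have hrk : ∀ i j, (p : ℤ) ∣ P i j - (-u * c i a₀) * c a₀ j := by
      intro i j
      obtain ⟨q, hq⟩ := hmin i j a₀ a₀
      refine ⟨(if i = j then 1 else 0) - u * q - w * c i j, ?_⟩
      simp only [hP, hC, Matrix.sub_apply, Matrix.smul_apply, Matrix.one_apply, Matrix.of_apply, smul_eq_mul]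
      linear_combination c i j * huw - u * hq
    have hE : ∀ a b, (p : ℤ) ∣ E a b - (∑ i, L a i * (-u * c i a₀)) * ∑ j, c a₀ j * L b j := by
      intro a b
      simp only [E, Matrix.mul_apply, Matrix.transpose_apply, Finset.sum_mul, Finset.mul_sum]
      rw [← sum_sub_distrib]
      refine Finset.dvd_sum fun j _ => ?_
      rw [← sum_sub_distrib]
      refine Finset.dvd_sum fun i _ => ?_
      rw [show L a i * P i j * L b j - L a i * (-u * c i a₀) * (c a₀ j * L b j)
        = L a i * L b j * (P i j - (-u * c i a₀) * c a₀ j) by ring]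
      exact dvd_mul_of_dvd_right (hrk i j) _
    obtain ⟨m, hm⟩ := pow_dvd_det_of_rank_one hp E _ _ hE
    rw [Fintype.card_fin] at hm
    refine ⟨m, mul_left_cancel₀ (pow_ne_zero (t - 1) hp0.ne') ?_⟩
    rw [hm, mul_left_comm] at hdet
    rw [hdet, ← pow_succ, Nat.sub_add_cancel ht0]
  -- the enlarged matrix
  let A : Matrix ι (Fin t ⊕ Unit) ℤ := fromCols X (replicateCol Unit v)
  set S : Matrix (Fin t ⊕ Unit) (Fin t ⊕ Unit) ℤ :=
    fromBlocks 1 (replicateCol Unit (-((L * P) *ᵥ v))) 0 (diagonal fun _ => (p : ℤ))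
  have hAS : A * S = fromCols X (replicateCol Unit (C *ᵥ v)) := by
    ext i (a | a)
    · simp [A, S, Matrix.mul_apply, Fintype.sum_sum_type, Matrix.one_apply]
    · have h1 : ∑ x, X i x * ((L * P) *ᵥ v) x = (P *ᵥ v) i := by
        conv_rhs => rw [← hXY, ← mulVec_mulVec]
        rfl
      have h2 : (P *ᵥ v) i = (p : ℤ) * v i - (C *ᵥ v) i := by
        simp [hP, sub_mulVec]
      simp [A, S, Matrix.mul_apply, Fintype.sum_sum_type, sum_neg_distrib, h1, h2]
      ring
  have hkey : (p : ℤ) * (Aᵀ * A).det = G.det * bil c v v := by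
    have hbd : (A * S)ᵀ * (A * S) = fromBlocks G 0 0 (diagonal fun _ => (p : ℤ) * bil c v v) := by
      rw [hAS, transpose_fromCols, fromRows_mul_fromCols]
      have h0 : Xᵀ * replicateCol Unit (C *ᵥ v) = 0 := by
        have h1 : Xᵀ * C = 0 := by rw [← hCt, ← Matrix.transpose_mul, hCX, Matrix.transpose_zero]
        rw [replicateCol_mulVec, ← Matrix.mul_assoc, h1, Matrix.zero_mul]
      congr 1
      · have h1 := congrArg Matrix.transpose h0
        rwa [Matrix.transpose_mul, Matrix.transpose_transpose, Matrix.transpose_zero] at h1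
      · ext a a'
        have h1 := CycloTrace.mul_bil_self hsym hsq v
        simp [Matrix.mul_apply, mulVec, dotProduct, hC, h1, sq]
    have h := congrArg det hbd
    rw [Matrix.transpose_mul, show Sᵀ * Aᵀ * (A * S) = Sᵀ * (Aᵀ * A) * S by simp only [Matrix.mul_assoc],
      det_mul, det_mul, det_transpose, det_fromBlocks_zero₂₁, det_fromBlocks_zero₂₁] at h
    simp only [det_one, det_diagonal, prod_const, card_univ, Fintype.card_unit, pow_one, one_mul] at h
    exact mul_left_cancel₀ hp0.ne' (by linear_combination h)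
  have hG0 : G.det ≠ 0 := left_ne_zero_of_mul (hdet ▸ pow_ne_zero t hp0.ne')
  have hgram : (l : ℤ) ≤ (Aᵀ * A).det := by
    refine le_trans (le_of_eq ?_) (le_gram A (fun i h0 => hdiag i ?_)
      (right_ne_zero_of_mul (hkey ▸ mul_ne_zero hG0 hv)))
    · rw [Fintype.card_sum, Fintype.card_fin, Fintype.card_unit]
      congr 1
      omega
    · have h1 : P i i = 0 := by
        rw [← hXY, Matrix.mul_apply]
        exact sum_eq_zero fun a _ => by
          rw [show X i a = 0 from congrFun h0 (Sum.inl a), zero_mul]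
      simp only [hP, hC, Matrix.sub_apply, Matrix.smul_apply, Matrix.one_apply_eq, smul_eq_mul, mul_one,
        Matrix.of_apply, sub_eq_zero] at h1
      exact dvd_of_eq h1
  have hbil : 0 < bil c v v := lt_of_le_of_ne (bil_self_nonneg hsym hsq hp0 v) hv.symm
  have hle : G.det ≤ p := Int.le_of_dvd hp0 hdvd
  nlinarith

end Cfsg.Agent.SmallSection
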