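import Cfsg.Agent.Lib.SmallSection.Dominate
import Cfsg.Agent.Lib.SmallSection.LatticeDet
import Cfsg.Agent.Lib.SecondMain.Contributions
import Cfsg.Agent.Lib.SecondMain.Contribution
import Cfsg.Agent.Lib.SecondMain.TwoBounds
import Cfsg.Agent.Lib.Blocks.LocalBlocks
import Cfsg.Agent.Lib.Blocks.KleinDefect
import Cfsg.Agent.S4710
import Cfsg.Agent.S4733

/-!
# The number of characters in a block of given defect

* `exists_major`: a block `b` of the centraliser of an element of order `p` inducing `B`, of equal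
  defect, and so the dominated block of `C(z) ⧸ ⟨z⟩` of defect one less.
* `card_le_sq_of_defect_two`: `k(B) ≤ p²` for defect two.
* `card_le_bounds`: `k(B) ≤ p ^ d` for `d ≤ 2` and `≤ p ^ (2d - 2)` for `d ≥ 3`.
-/

set_option autoImplicit false
set_option linter.style.haveILetI false

open scoped ComplexConjugate

namespace Cfsg.Agent.SmallSection

open Cfsg Cfsg.Agent Cfsg.Agent.Blocks
open Cfsg.Agent.SecondMain (commute_iff_mem_centralizer_singleton exists_contrib_eq)

universe u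

variable {p : ℕ} [Fact p.Prime] {M : Ideal AlgInt}

/-- A major subsection at an element of order `p`, with its dominated block. -/
theorem exists_major {G : Type u} [Group G] [Finite G] (hM : IsPModular p M)
    {B : Set (IrrCharacter G)} (hB : IsPBlock M B) (hd : blockDefect p B ≠ 0) :
    ∃ (z : G) (H : Subgroup G) (D : Subgroup H) (_ : D.Normal) (b : Set (IrrCharacter H)),
      orderOf z = p ∧ (∀ g, g ∈ H ↔ Commute z g) ∧ IsInducedBlock M H b B ∧
      IsPGroup p D ∧ D ≤ Subgroup.center H ∧ Nat.card D = p ∧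
      blockDefect p b = blockDefect p B := by
  classical
  have hp : p.Prime := Fact.out
  obtain ⟨Q, hQ⟩ := exists_isDefectGroup hM hB
  have hQcard := card_defectGroup hM hB hQ
  have hQp := isPGroup_defectGroup hM hQ
  obtain ⟨g, hg, hgQ⟩ := hQ
  have hQg : Q ≤ Subgroup.centralizer ({g} : Set G) := sylowIn_le hgQ
  haveI : Nontrivial Q := Finite.one_lt_card_iff_nontrivial.mp (by
    rw [hQcard]; exact Nat.one_lt_pow hd hp.one_lt)
  haveI := hQp.center_nontrivial
  obtain ⟨z₀, hz₀⟩ := exists_prime_orderOf_dvd_card' (G := Subgroup.center Q) p (by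
    obtain ⟨k, hk⟩ := (hQp.to_subgroup (Subgroup.center Q)).exists_card_eq
    refine hk ▸ dvd_pow_self p fun h0 => ?_
    have := Finite.one_lt_card (α := Subgroup.center Q)
    rw [hk, h0, pow_zero] at this
    exact lt_irrefl _ this)
  set z : G := ((z₀ : Q) : G) with hz
  have hzo : orderOf z = p := by rw [hz, Subgroup.orderOf_coe, Subgroup.orderOf_coe, hz₀]
  have hzc : ∀ q ∈ Q, Commute z q := fun q hq => by
    have := congrArg (Subtype.val : Q → G) (Subgroup.mem_center_iff.mp z₀.2 ⟨q, hq⟩)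
    exact this.symm
  set H := Subgroup.centralizer ({z} : Set G) with hH'
  have hH : ∀ a, a ∈ H ↔ Commute z a := fun a => commute_iff_mem_centralizer_singleton
  have hgz : Commute z g := (commute_iff_mem_centralizer_singleton.mp (hQg (z₀ : Q).2)).symm
  let gH : H := ⟨g, (hH g).mpr hgz⟩
  obtain ⟨b, hb, hby⟩ := exists_induced_coeff_not_memI hM ⟨1, by rw [hzo, pow_one]⟩ hH hB (y := gH) hg.2.1
  have hQH : Q ≤ H := fun q hq => (hH q).mpr (hzc q hq)
  have hdef : blockDefect p b = blockDefect p B := by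
    refine le_antisymm (blockDefect_le_of_induced hM hb) ?_
    have h1 := card_le_pow_blockDefect hM hb.1 hby (Q := Q.subgroupOf H)
      (hQp.comap_of_injective H.subtype H.subtype_injective) (fun q hq => by
        refine commute_iff_mem_centralizer_singleton.mpr (Subtype.ext ?_)
        exact (commute_iff_mem_centralizer_singleton.mp (hQg hq)).eq)
    rw [Nat.card_congr (Subgroup.subgroupOfEquivOfLe hQH).toEquiv, hQcard] at h1
    exact (Nat.pow_le_pow_iff_right hp.one_lt).1 h1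
  let zH : H := ⟨z, (hH z).mpr (Commute.refl z)⟩
  have hzH : zH ∈ Subgroup.center H := Subgroup.mem_center_iff.mpr fun a =>
    Subtype.ext ((hH a).mp a.2).eq.symm
  have hDZ : Subgroup.zpowers zH ≤ Subgroup.center H := Subgroup.zpowers_le.mpr hzH
  have hcard : Nat.card (Subgroup.zpowers zH) = p := by
    rw [Nat.card_zpowers, ← Subgroup.orderOf_coe, hzo]
  exact ⟨z, H, Subgroup.zpowers zH,
    ⟨fun a ha c => by rwa [Subgroup.mem_center_iff.mp (hDZ ha) c, mul_inv_cancel_right]⟩, b, hzo, hH,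
    hb, IsPGroup.of_card (n := 1) (by rw [hcard, pow_one]), hDZ, hcard, hdef⟩

/-- The form of a block of defect two over a central subgroup of order `p` takes no small values. -/
theorem le_bil_of_central {H : Type*} [Group H] [Fintype H] (hM : IsPModular p M) {D : Subgroup H}
    [D.Normal] (hD : IsPGroup p D) (hDZ : D ≤ Subgroup.center H) (hcard : Nat.card D = p)
    {b : Set (IrrCharacter H)} [Fintype b] (hb : IsPBlock M b) (hdef : blockDefect p b = 2)
    (C : b → b → ℤ) (hC : ∀ a c : b, (p : ℂ) ^ 2 *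
      SecondMain.regInner p ((a : IrrCharacter H) : H → ℂ) ((c : IrrCharacter H) : H → ℂ) = C a c)
    (hmin : ∀ a a' c c', (p : ℤ) ∣ C a a' * C c c' - C a c' * C c a')
    (v : b → ℤ) (hv : CycloTrace.bil C v v ≠ 0) : (blockRank p b : ℤ) ≤ CycloTrace.bil C v v := by
  classical
  have hp : p.Prime := Fact.out
  have := Fintype.ofFinite (H ⧸ D)
  have := Fintype.ofFinite (IrrCharacter (H ⧸ D))
  set b' := quotBlock D b with hb''
  have hb' : IsPBlock M b' := isPBlock_quotBlock hM hD hDZ hb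
  have hdef' : blockDefect p b' = 1 := by
    have := blockDefect_quotBlock hM hD hDZ hb (e := 1) (by rw [hcard, pow_one])
    rw [hdef, ← hb''] at this
    exact (Nat.succ.inj this).symm
  let ι : b' → b := fun ξ => ⟨Codegree.inflate D ξ.1, ξ.2⟩
  let c : b' → b' → ℤ := fun ξ ξ' => C (ι ξ) (ι ξ')
  have hp0 : (p : ℂ) ≠ 0 := Nat.cast_ne_zero.mpr hp.ne_zero
  have hc : ∀ ξ ξ' : b', (c ξ ξ' : ℂ) = (p : ℂ) * SecondMain.regInner p
      ((ξ : IrrCharacter (H ⧸ D)) : H ⧸ D → ℂ) ((ξ' : IrrCharacter (H ⧸ D)) : H ⧸ D → ℂ) := fun ξ ξ' => by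
    rw [← regInner_inflate hD hDZ (ξ.1 : H ⧸ D → ℂ) (ξ'.1 : H ⧸ D → ℂ), hcard, ← hC, ← mul_assoc, ← sq]
    rfl
  obtain ⟨c', hc', hsymm, -, hdvd⟩ := RegPart.exists_contribution hM hb'
  have hcc : ∀ ξ ξ', c ξ ξ' = c' ξ ξ' := fun ξ ξ' => by
    have h : (c ξ ξ' : ℂ) = c' ξ ξ' := by
      rw [hc, ← hc', hdef', pow_one]
      rfl
    exact_mod_cast h
  have hsym : ∀ ξ ξ', c ξ ξ' = c ξ' ξ := fun ξ ξ' => by rw [hcc, hcc, hsymm]
  have hsq : ∀ ξ ξ', ∑ k, c ξ k * c k ξ' = (p : ℤ) * c ξ ξ' := by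
    intro ξ ξ'
    have h := SecondMain.regInner_idem hM hb' ξ.2 ((ξ'.1 : IrrCharacter (H ⧸ D)) : H ⧸ D → ℂ)
    rw [finsum_mem_eq_toFinset_sum, Finset.sum_subtype b'.toFinset (fun _ => Set.mem_toFinset)] at h
    have h2 : ((∑ k, c ξ k * c k ξ' : ℤ) : ℂ) = (((p : ℤ) * c ξ ξ' : ℤ) : ℂ) := by
      simp only [Int.cast_sum, Int.cast_mul, Int.cast_natCast, hc, ← h, Finset.mul_sum]
      exact Finset.sum_congr rfl fun k _ => by ring
    exact_mod_cast h2
  have htr : ∑ ξ, c ξ ξ = (p : ℤ) * blockRank p b := by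
    have h : ((∑ ξ, c ξ ξ : ℤ) : ℂ) = (((p : ℤ) * blockRank p b : ℤ) : ℂ) := by
      rw [blockRank_quotBlock hM hD hDZ hb, Int.cast_sum, Int.cast_mul, Int.cast_natCast, Int.cast_natCast,
        BrauerPairs.card_mul_blockRank hM hb', finsum_mem_eq_toFinset_sum,
        Finset.sum_subtype b'.toFinset (fun _ => Set.mem_toFinset), Finset.mul_sum]
      exact Finset.sum_congr rfl fun ξ _ => hc ξ ξ
    exact_mod_cast h
  have hdiag : ∀ ξ, ¬ (p : ℤ) ∣ c ξ ξ := by
    intro ξ hdiv
    have h0 : blockHeight p b' ((ξ : IrrCharacter (H ⧸ D)) : H ⧸ D → ℂ) = 0 :=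
      ((S4710.result p M hM b' hb' 1 hdef').2 ξ.1 ξ.2).1 le_rfl
    have h1 := (hdvd ξ ξ).2
    rw [h0, zero_add, pow_one, ← hcc] at h1
    exact lt_irrefl 0 (h1.mp hdiv)
  -- expand on the regular elements
  choose n hn0 hn using fun a : b => exists_block_expansion hM hD hDZ hb a.2
  let w : b' → ℤ := fun ξ => ∑ a, v a * n a ξ.1
  have hreg : ∀ a a' : b, (C a a' : ℂ) = ∑ ξ : b', ∑ ξ' : b', (n a ξ.1 : ℂ) * (n a' ξ'.1 : ℂ) * (c ξ ξ' : ℂ) := by
    intro a a'
    have hexp : ∀ (a : b) (g : H), ¬ p ∣ orderOf g →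
        ((a : IrrCharacter H) : H → ℂ) g = ∑ ξ : b', (n a ξ.1 : ℂ) * (ξ.1 : H ⧸ D → ℂ) g := by
      intro a g hg
      rw [hn a g hg, ← Finset.sum_subset (Finset.subset_univ b'.toFinset) (fun ξ _ hξ => by
          rw [hn0 a ξ fun h => hξ (Set.mem_toFinset.mpr h), Int.cast_zero, zero_mul]),
        Finset.sum_subtype b'.toFinset (fun _ => Set.mem_toFinset)]
    simp only [← hC, c]
    simp only [SecondMain.regInner_eq_sum, Finset.mul_sum]
    rw [Finset.sum_congr rfl fun ξ _ => Finset.sum_comm, Finset.sum_comm]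
    refine Finset.sum_congr rfl fun g hg => ?_
    rw [hexp a g (Finset.mem_filter.mp hg).2, hexp a' g (Finset.mem_filter.mp hg).2, map_sum,
      Finset.sum_mul_sum]
    simp only [Finset.mul_sum, map_mul, map_intCast, ι, Codegree.inflate_apply]
    exact Finset.sum_congr rfl fun ξ _ => Finset.sum_congr rfl fun ξ' _ => by ring
  have hbil : CycloTrace.bil C v v = CycloTrace.bil c w w := by
    have h : ((CycloTrace.bil C v v : ℤ) : ℂ) = ((CycloTrace.bil c w w : ℤ) : ℂ) := by
      simp only [CycloTrace.bil, w, Int.cast_sum, Int.cast_mul, hreg, Finset.mul_sum, Finset.sum_mul]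
      rw [Finset.sum_congr rfl fun a _ => Finset.sum_comm, Finset.sum_comm]
      refine Finset.sum_congr rfl fun ξ _ => ?_
      rw [Finset.sum_congr rfl fun a _ => Finset.sum_comm, Finset.sum_comm]
      refine Finset.sum_congr rfl fun ξ' _ => ?_
      rw [Finset.sum_comm]
      exact Finset.sum_congr rfl fun a _ => Finset.sum_congr rfl fun a' _ => by ring
    exact_mod_cast h
  rw [hbil] at hv ⊢
  exact le_bil hp c hsym hsq htr hdiag (fun a a' e e' => hmin _ _ _ _) w hv

/-- The defect two case. -/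
theorem card_le_sq_of_defect_two {G : Type u} [Group G] [Finite G] (hM : IsPModular p M)
    {B : Set (IrrCharacter G)} (hB : IsPBlock M B) (hd : blockDefect p B = 2) :
    Nat.card B ≤ p ^ 2 := by
  classical
  have hp : p.Prime := Fact.out
  obtain ⟨z, H, D, hDn, b, hzo, hH, hb, hD, hDZ, hcard, hdef⟩ := exists_major hM hB (by omega)
  have := Fintype.ofFinite G
  have := Fintype.ofFinite H
  have := Fintype.ofFinite B
  have := Fintype.ofFinite b
  obtain ⟨E, hE, htr, hrank, hunit, -⟩ := SecondMain.exists_contrib_eq hM (x := z) (n := 0)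
    (by rw [hzo, pow_one]) hH hB hb
  have hd2 : blockDefect p b = 2 := hdef.trans hd
  have hh : ∀ χ : B, blockHeight p B ((χ : IrrCharacter G) : G → ℂ) = 0 := fun χ =>
    Nat.le_zero.mp (by simpa using ((S4710.result p M hM B hB 2 hd).2 χ.1 χ.2).2 le_rfl)
  have hK : (0 : ℤ) < ((p ^ blockDefect p b : ℕ) : ℤ) := by exact_mod_cast E.K_pos
  have hlow : ∀ χ : B, (blockRank p b : ℝ) ≤
      CycloTrace.avg p 0 fun ζ => (E.U ζ χ χ).re := by
    intro χ
    obtain ⟨a, ha⟩ : ∃ a, E.y (CycloTrace.root p 0) χ a ≠ 0 := by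
      by_contra hcon
      push Not at hcon
      refine hunit χ χ (hh χ) (hh χ) ?_
      rw [show E.U (CycloTrace.root p 0) χ χ = 0 from
        Finset.sum_eq_zero fun a _ => by rw [hcon a, zero_mul]]
      exact memI_zero hM
    simp only [E.U_eq_val]
    obtain ⟨r, hr, k, hk, k', hk', h⟩ := CycloTrace.exists_pair (p := p) (n := 0) E.sym E.sq hK
      (E.m χ) (E.e χ) (a := a) (by
        convert ha using 1
        exact Finset.sum_congr rfl fun i _ => by rw [E.sym a i, CycloTrace.CData.co]; ring)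
    have h1 : 2 * (blockRank p b : ℤ) * ((p : ℤ) - 1) ≤ ∑ r ∈ Finset.range (p ^ 0),
        ∑ k ∈ Finset.range p, ∑ k' ∈ Finset.range p,
          CycloTrace.pairVal p 0 E.C (E.m χ) (E.e χ) r k k' := by
      have hlb : ∀ v : b → ℤ, CycloTrace.bil E.C v v ≠ 0 →
          (blockRank p b : ℤ) ≤ CycloTrace.bil E.C v v := fun v hv =>
        le_bil_of_central hM hD hDZ hcard hb.1 hd2 E.C (fun a c => by rw [hE, hd2]) hrank v hv
      have hb1 := CycloTrace.class_bound (p := p) (n := 0) E.sym E.sq hK (E.m χ) (E.e χ) r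
        (c := (blockRank p b : ℤ)) (fun a a' ha => hlb _ ha) (Int.natCast_nonneg _) hk hk' h
      refine hb1.trans ?_
      exact Finset.single_le_sum (f := fun r => ∑ k ∈ Finset.range p, ∑ k' ∈ Finset.range p,
          CycloTrace.pairVal p 0 E.C (E.m χ) (E.e χ) r k k') (fun r _ => Finset.sum_nonneg fun k _ =>
          Finset.sum_nonneg fun k' _ => CycloTrace.bil_self_nonneg E.sym E.sq hK _) hr
    have h2 := CycloTrace.avg_val (p := p) (n := 0) E.C (E.m χ) (E.e χ)
    have hp1 : (0 : ℝ) < (p : ℝ) - 1 := sub_pos.mpr (by exact_mod_cast hp.one_lt)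
    have h3 : 2 * (blockRank p b : ℝ) * ((p : ℝ) - 1) ≤
        2 * ((p : ℝ) - 1) * CycloTrace.avg p 0 fun ζ =>
          (CycloTrace.val E.C (E.m χ) (E.e χ) ζ).re := by
      rw [h2]
      exact_mod_cast h1
    nlinarith
  have hsum : (Fintype.card B : ℝ) * blockRank p b ≤ ((p ^ 2 : ℕ) : ℝ) * blockRank p b := by
    have h := E.sum_avg htr
    rw [show (p ^ 2 : ℕ) = p ^ blockDefect p b by rw [hd2], ← h]
    refine le_trans (le_of_eq ?_) (Finset.sum_le_sum fun χ _ => hlow χ)
    rw [Finset.sum_const, Finset.card_univ, nsmul_eq_mul]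
  rw [Nat.card_eq_fintype_card]
  have hl : (0 : ℝ) < blockRank p b := by exact_mod_cast KleinDefect.blockRank_pos hM hb.1
  exact_mod_cast le_of_mul_le_mul_right hsum hl

theorem card_le_bounds_aux (hM : IsPModular p M) : ∀ (d : ℕ) {G : Type u} [Group G] [Finite G]
    (B : Set (IrrCharacter G)), IsPBlock M B → blockDefect p B = d →
      (d ≤ 2 → Nat.card B ≤ p ^ d) ∧ (3 ≤ d → Nat.card B ≤ p ^ (2 * d - 2)) := by
  intro d
  induction d using Nat.strong_induction_on with
  | _ d ih =>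
  intro G _ _ B hB hd
  classical
  have hp : p.Prime := Fact.out
  rcases Nat.eq_zero_or_pos d with rfl | hd0
  · refine ⟨fun _ => ?_, fun h => absurd h (by omega)⟩
    rw [pow_zero, ((S4733.result p M hM B hB).2.1.mp hd).1]
  rcases eq_or_ne d 2 with rfl | hd2
  · exact ⟨fun _ => card_le_sq_of_defect_two hM hB hd, fun h => absurd h (by omega)⟩
  obtain ⟨hpos, hsmall⟩ := S4710.result p M hM B hB d hd
  by_cases hh : ∃ χ ∈ B, 0 < blockHeight p B (χ : G → ℂ)
  · obtain ⟨χ, hχ, hχ0⟩ := hh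
    refine ⟨fun h => ?_, fun _ => by have := hpos ⟨χ, hχ, hχ0⟩; omega⟩
    have := (hsmall χ hχ).1 (by omega)
    omega
  obtain ⟨z, H, D, hDn, b, hzo, hH, hb, hD, hDZ, hcard, hdef⟩ := exists_major hM hB (by omega)
  have := Fintype.ofFinite G
  have := Fintype.ofFinite H
  have := Fintype.ofFinite B
  have := Fintype.ofFinite b
  have hsq := SecondMain.card_sq_le_of_heights_zero hM ⟨1, by rw [hzo, pow_one]⟩ hH hb
    (fun χ hχ => Nat.eq_zero_of_not_pos fun h => hh ⟨χ, hχ, h⟩)
  have hb' := isPBlock_quotBlock hM hD hDZ hb.1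
  have hd' : blockDefect p (quotBlock D b) = d - 1 := by
    have h := blockDefect_quotBlock hM hD hDZ hb.1 (e := 1) (by rw [hcard, pow_one])
    rw [hdef, hd] at h
    omega
  have hl : blockRank p b ≤ Nat.card (quotBlock D b) := by
    rw [blockRank_quotBlock hM hD hDZ hb.1]
    exact (S4733.result p M hM _ hb').1
  obtain ⟨h1, h3⟩ := ih (d - 1) (by omega) (quotBlock D b) hb' hd'
  rw [hdef, hd] at hsq
  refine ⟨fun h => ?_, fun h => ?_⟩
  · obtain rfl : d = 1 := by omega
    have hl1 : blockRank p b ≤ 1 := hl.trans ((h1 (by omega)).trans_eq (pow_zero p))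
    refine (Nat.pow_le_pow_iff_left two_ne_zero).1 (hsq.trans ?_)
    calc p ^ (2 * 1) * blockRank p b ≤ p ^ (2 * 1) * 1 := Nat.mul_le_mul_left _ hl1
      _ = _ := by ring
  · have hl' : blockRank p b ≤ p ^ (2 * d - 4) := by
      refine hl.trans ?_
      rcases eq_or_ne d 3 with rfl | hd3
      · exact h1 le_rfl
      · exact (h3 (by omega)).trans_eq (congrArg (p ^ ·) (by omega))
    refine (Nat.pow_le_pow_iff_left two_ne_zero).1 (hsq.trans ?_)
    calc p ^ (2 * d) * blockRank p b ≤ p ^ (2 * d) * p ^ (2 * d - 4) := Nat.mul_le_mul_left _ hl'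
      _ = _ := by rw [← pow_add, ← pow_mul]; congr 1; omega

theorem card_le_bounds {G : Type u} [Group G] [Finite G] (hM : IsPModular p M)
    {B : Set (IrrCharacter G)} (hB : IsPBlock M B) {d : ℕ} (hd : blockDefect p B = d) :
    (d ≤ 2 → Nat.card B ≤ p ^ d) ∧ (3 ≤ d → Nat.card B ≤ p ^ (2 * d - 2)) :=
  card_le_bounds_aux hM d B hB hd

end Cfsg.Agent.SmallSection
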