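import Cfsg.Agent.Lib.CycDefect.Setup
import Cfsg.Agent.Lib.BrauerPairs.Correspondence
import Cfsg.Agent.Lib.SmallSection.DefectBound
import Cfsg.Agent.Lib.SmallSection.AbelianAction
import Cfsg.Agent.Lib.SecondMain.Major
import Cfsg.Agent.Lib.SecondMain.BrauerPair

/-!
# Blocks with abelian defect groups of rank two or three

* `card_le_mul_lrank`: `k(B) ≤ p ^ d * l(f)` for the block `f` at an element of the defect group.
* `exists_nilpotent_below`: with `|D[p]| ≤ p ^ 2` and exponent above `p` some such `f` has rank one,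
  so `k(B) ≤ |D|`.
* `rank_two_bound`, `rank_three_bound`.
-/

set_option autoImplicit false
set_option maxHeartbeats 1000000
set_option linter.unusedSectionVars false
set_option linter.style.haveILetI false

namespace Cfsg.Agent.SmallSection

open Cfsg Cfsg.Agent Cfsg.Agent.Blocks Cfsg.Agent.BrauerPairs Cfsg.Agent.LocalRank

variable {G : Type*} [Group G] [Finite G] {p : ℕ} [Fact p.Prime] {M : Ideal AlgInt}
  {B : Set (IrrCharacter G)} {P : Subgroup G}
  {e : Set (IrrCharacter (Subgroup.centralizer (P : Set G)))}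

theorem card_maximal (hM : IsPModular p M) (hmax : IsMaximalBrauerPair p M B P e) :
    Nat.card P = p ^ blockDefect p B :=
  card_defectGroup hM hmax.1.2.1 (maximal_isDefectGroup hM hmax)

/-- `k(B) ≤ p ^ d * l(f)` at a central element of a maximal pair. -/
theorem card_le_mul_lrank (hM : IsPModular p M) (hmax : IsMaximalBrauerPair p M B P e)
    (hab : ∀ x ∈ P, ∀ y ∈ P, x * y = y * x) {z : G} (hz : z ∈ P)
    {f : Set (IrrCharacter (Subgroup.centralizer (Subgroup.zpowers z : Set G)))}
    (hf : IsPBlock M f) (hle : SubpairLE p M (Subgroup.zpowers z) f P e) :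
    Nat.card B ≤ Nat.card P * blockRank p f := by
  classical
  have := Fintype.ofFinite G
  have := Fintype.ofFinite (Subgroup.centralizer (Subgroup.zpowers z : Set G))
  have := Fintype.ofFinite B
  have := Fintype.ofFinite f
  have hp : p.Prime := Fact.out
  obtain ⟨j, hj⟩ : ∃ k, orderOf z = p ^ k := Star.exists_order_pow hmax.1.1.1 (⟨z, hz⟩ : P)
  have hB : IsPBlock M B := hmax.1.2.1
  have hind := SecondMain.induced_of_brauerPair hM ⟨j, hj⟩
    ((isBrauerPairOf_iff_of_le hM hB hle).1 hmax.1)
  have hdef : blockDefect p f = blockDefect p B :=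
    Star.blockDefect_eq_of_major hM hmax ⟨j, hj⟩ (a := ⟨Subgroup.zpowers z, f⟩)
      (Star.mem_pairsAt.2 ⟨rfl, hf⟩) hle fun y hy => hab z hz y hy
  obtain ⟨C, -, htr, -, -, hU⟩ := SecondMain.exists_contrib_eq hM (x := z) (n := j)
    (by rw [hj]; exact pow_dvd_pow p j.le_succ)
    (fun g => SecondMain.mem_centralizer_zpowers_iff) hB hind
  obtain ⟨φ, hφ, hφ0⟩ := SecondMain.exists_height_zero hM hB
  have hone : ∀ χ : B, (1 : ℝ) ≤ CycloTrace.avg p j fun ζ => (C.U ζ χ χ).re := by
    intro χ
    obtain ⟨w, -, hw, hw0, -⟩ := hU hdef χ ⟨φ, hφ⟩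
    have hne : C.U (CycloTrace.root p j) χ ⟨φ, hφ⟩ ≠ 0 := by
      rw [hw]
      exact mul_ne_zero (pow_ne_zero _ (Nat.cast_ne_zero.mpr hp.ne_zero))
        (ne_zero_of_not_memI hM (hw0 hφ0))
    rw [← CycloTrace.avg_congr fun ζ hζ => congrArg Complex.re (C.aeval_UP hζ χ χ)]
    refine CycloTrace.one_le_avg_re fun ζ hζ => ?_
    rw [C.aeval_UP hζ]
    exact ⟨C.U_re_pos hζ hne, C.U_im ζ χ⟩
  have h := C.sum_avg htr
  have hle' : (Fintype.card B : ℝ) ≤ ((p ^ blockDefect p f * blockRank p f : ℕ) : ℝ) := by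
    rw [Nat.cast_mul, ← h]
    refine le_trans (le_of_eq ?_) (Finset.sum_le_sum fun χ _ => hone χ)
    simp
  rw [card_maximal hM hmax, ← hdef, Nat.card_eq_fintype_card]
  exact_mod_cast hle'

/-- An element with stabiliser in the centraliser gives a local block of rank one. -/
theorem blockRank_below_eq_one (hM : IsPModular p M) (hmax : IsMaximalBrauerPair p M B P e)
    (hab : ∀ x ∈ P, ∀ y ∈ P, x * y = y * x) {z : G} (hz : z ∈ P)
    (hreg : ∀ t ∈ pairStab M P e, t * z * t⁻¹ = z → t ∈ Subgroup.centralizer (P : Set G))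
    {f : Set (IrrCharacter (Subgroup.centralizer (Subgroup.zpowers z : Set G)))}
    (hf : IsPBlock M f) (hle : SubpairLE p M (Subgroup.zpowers z) f P e) :
    blockRank p f = 1 := by
  have := Fintype.ofFinite (Subgroup.centralizer (Subgroup.zpowers z : Set G))
  obtain ⟨P', e', hmax', hmap, hst, -⟩ :=
    Watanabe.exists_down hM hmax hab (Subgroup.zpowers_le.2 hz) hf hle
  subst hmap
  have hab' : ∀ x ∈ P', ∀ y ∈ P', x * y = y * x := fun x hx y hy => Subtype.ext
    (hab _ (Subgroup.mem_map_of_mem _ hx) _ (Subgroup.mem_map_of_mem _ hy))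
  refine CycDefect.blockRank_of_nilpotent hM ?_ (maximal_isDefectGroup hM hmax')
  rw [S4687.result p M hM f P' e' hmax' hab']
  intro g hgN hgst
  have hg := (hst g).1 ((mem_pairStab_iff hM hmax'.1.1.2).2 ⟨hgN, hgst⟩)
  refine (mem_centralizer_sub_iff P' g).2 (hreg g hg ?_)
  rw [← (SecondMain.mem_centralizer_zpowers_iff.1 g.2).eq, mul_inv_cancel_right]

/-- The inertial group acting on the subgroup of a maximal pair. -/
theorem exists_inertial (hM : IsPModular p M) (hmax : IsMaximalBrauerPair p M B P e)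
    [IsMulCommutative P] :
    ∃ E : Subgroup (MulAut P), ¬ p ∣ Nat.card E ∧
      (∀ g ∈ E, ∃ t ∈ pairStab M P e, ∀ x : P, (g x : G) = t * x * t⁻¹) ∧
      ∀ t ∈ pairStab M P e, ∃ g ∈ E, (∀ x : P, (g x : G) = t * x * t⁻¹) ∧
        (g = 1 → t ∈ Subgroup.centralizer (P : Set G)) := by
  classical
  have hab : ∀ x ∈ P, ∀ y ∈ P, x * y = y * x := fun x hx y hy =>
    congrArg Subtype.val (mul_comm' (⟨x, hx⟩ : P) ⟨y, hy⟩)
  set T := pairStab M P e
  let act : T →* MulAut P :=
    { toFun := fun t => conjEquiv P P t (mem_normalizer_iff_conj t.2.1)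
      map_one' := by ext u; simp [coe_conjEquiv]
      map_mul' := fun a b => by ext u; simp [coe_conjEquiv, mul_assoc] }
  have hact : ∀ (t : T) (x : P), ((act t x : P) : G) = t * x * (t : G)⁻¹ :=
    fun t x => by simp [act, coe_conjEquiv]
  have hker : act.ker = (Subgroup.centralizer (P : Set G)).subgroupOf T := by
    ext t
    rw [MonoidHom.mem_ker, Subgroup.mem_subgroupOf, Subgroup.mem_centralizer_iff]
    constructor
    · intro h y hy
      have h1 := congrArg (fun a : MulAut P => ((a ⟨y, hy⟩ : P) : G)) h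
      simp only [hact, MulAut.one_apply] at h1
      conv_lhs => rw [← h1]
      group
    · intro h
      refine MulEquiv.ext fun x => Subtype.ext ?_
      rw [hact, MulAut.one_apply, ← h x x.2, mul_inv_cancel_right]
  refine ⟨act.range, ?_, ?_, fun t ht => ⟨act ⟨t, ht⟩, ⟨_, rfl⟩, hact _, fun h => ?_⟩⟩
  · rw [← Subgroup.index_ker, hker]
    exact KleinDefect.stab_relIndex hM hmax hab
  · rintro _ ⟨t, rfl⟩
    exact ⟨t, t.2, hact t⟩
  · have h1 : (⟨t, ht⟩ : T) ∈ act.ker := h
    rw [hker] at h1
    exact h1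

/-- Regular elements give `k(B) ≤ |P|`. -/
theorem card_le_card_of_regular (hM : IsPModular p M) (hmax : IsMaximalBrauerPair p M B P e)
    (hab : ∀ x ∈ P, ∀ y ∈ P, x * y = y * x) {z : G} (hz : z ∈ P)
    (hreg : ∀ t ∈ pairStab M P e, t * z * t⁻¹ = z → t ∈ Subgroup.centralizer (P : Set G)) :
    Nat.card B ≤ Nat.card P := by
  obtain ⟨f, hf, hle⟩ := exists_subpair hM hmax.1.1 (Q := Subgroup.zpowers z) (Subgroup.zpowers_le.2 hz)
  have h := card_le_mul_lrank hM hmax hab hz hf hle
  rwa [blockRank_below_eq_one hM hmax hab hz hreg hf hle, mul_one] at h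

theorem rank_two_bound (hM : IsPModular p M) (hmax : IsMaximalBrauerPair p M B P e)
    [IsMulCommutative P] (hr : Group.rank P ≤ 2) : Nat.card B ≤ Nat.card P := by
  classical
  have hp : p.Prime := Fact.out
  have hab : ∀ x ∈ P, ∀ y ∈ P, x * y = y * x := fun x hx y hy =>
    congrArg Subtype.val (mul_comm' (⟨x, hx⟩ : P) ⟨y, hy⟩)
  let _ : CommGroup P :=
    { (inferInstance : Group P) with mul_comm := fun a b => Subtype.ext (hab a a.2 b b.2) }
  have hcard := card_maximal hM hmax
  by_cases hd : blockDefect p B ≤ 2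
  · rw [hcard]
    exact (card_le_bounds hM hmax.1.2.1 rfl).1 hd
  obtain ⟨E, hE, -, hET⟩ := exists_inertial hM hmax
  have homega : Nat.card (powMonoidHom p : P →* P).ker ≤ p ^ 2 :=
    card_omega_le.trans (Nat.pow_le_pow_right hp.pos hr)
  obtain ⟨z, hz⟩ := exists_regular hmax.1.1.1 E hE homega (by
    by_contra h
    push Not at h
    have hall : (powMonoidHom p : P →* P).ker = ⊤ := eq_top_iff.2 fun w _ => h w
    rw [hall, Subgroup.card_top, hcard] at homega
    exact hd ((Nat.pow_le_pow_iff_right hp.one_lt).1 homega))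
  refine card_le_card_of_regular hM hmax hab z.2 fun t ht htz => ?_
  obtain ⟨g, hg, hgx, hg1⟩ := hET t ht
  exact hg1 (hz g hg (Subtype.ext ((hgx z).trans htz)))

/-- The block at an element of maximal order in rank three. -/
theorem rank_below_le (hM : IsPModular p M) (hmax : IsMaximalBrauerPair p M B P e)
    [IsMulCommutative P] (hr : Group.rank P ≤ 3) {x : P} (hx : orderOf x = Monoid.exponent P)
    (hne : Monoid.exponent P ≠ 1)
    {f : Set (IrrCharacter (Subgroup.centralizer (Subgroup.zpowers (x : G) : Set G)))}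
    (hf : IsPBlock M f) (hle : SubpairLE p M (Subgroup.zpowers (x : G)) f P e) :
    blockRank p f * orderOf x ≤ Nat.card P := by
  classical
  have hp : p.Prime := Fact.out
  have hab : ∀ u ∈ P, ∀ y ∈ P, u * y = y * u := fun u hu y hy =>
    congrArg Subtype.val (mul_comm' (⟨u, hu⟩ : P) ⟨y, hy⟩)
  let _ : CommGroup P :=
    { (inferInstance : Group P) with mul_comm := fun a b => Subtype.ext (hab a a.2 b b.2) }
  obtain ⟨P', e', hmax', hmap, hst, -⟩ :=
    Watanabe.exists_down hM hmax hab (Subgroup.zpowers_le.2 x.2) hf hle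
  have hab' : ∀ u ∈ P', ∀ y ∈ P', u * y = y * u := fun u hu y hy => Subtype.ext
    (hab _ (hmap.le (Subgroup.mem_map_of_mem _ hu)) _ (hmap.le (Subgroup.mem_map_of_mem _ hy)))
  let ι : P' ≃* P :=
    (Subgroup.equivMapOfInjective P' _ (Subgroup.centralizer (Subgroup.zpowers (x : G) : Set G)).subtype_injective).trans (MulEquiv.subgroupCongr hmap)
  have hι : ∀ v : P', (ι v : G) = ((v : (Subgroup.centralizer (Subgroup.zpowers (x : G) : Set G))) : G) := fun v => rfl
  have hcard' : Nat.card P' = Nat.card P := Nat.card_congr ι.toEquiv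
  obtain ⟨a, ha⟩ : ∃ a, orderOf x = p ^ a := IsPGroup.iff_orderOf.1 hmax.1.1.1 x
  have hcardP := card_maximal hM hmax
  have hdef : blockDefect p f = blockDefect p B := by
    refine Nat.pow_right_injective hp.two_le ?_
    show p ^ _ = p ^ _
    rw [← card_maximal hM hmax', hcard', hcardP]
  have hxH : (x : G) ∈ (Subgroup.centralizer (Subgroup.zpowers (x : G) : Set G)) := SecondMain.mem_centralizer_zpowers_iff.2 (Commute.refl _)
  let x' : (Subgroup.centralizer (Subgroup.zpowers (x : G) : Set G)) := ⟨x, hxH⟩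
  have hxc : x' ∈ Subgroup.center (Subgroup.centralizer (Subgroup.zpowers (x : G) : Set G)) := Subgroup.mem_center_iff.2 fun h =>
    Subtype.ext (SecondMain.mem_centralizer_zpowers_iff.1 h.2).eq.symm
  have hox : orderOf x' = p ^ a := by rw [← Subgroup.orderOf_coe, ← ha, ← Subgroup.orderOf_coe x]
  have hdvd : a ≤ blockDefect p B := by
    refine (Nat.pow_dvd_pow_iff_le_right hp.one_lt).1 ?_
    rw [← ha, ← hcardP]
    exact orderOf_dvd_natCard x
  rw [ha, hcardP]
  by_cases hsmall : blockDefect p B ≤ a + 2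
  · -- domination
    set Z := Subgroup.zpowers x'
    have hZ : Z ≤ Subgroup.center (Subgroup.centralizer (Subgroup.zpowers (x : G) : Set G)) := Subgroup.zpowers_le.2 hxc
    have hZcard : Nat.card Z = p ^ a := by rw [Nat.card_zpowers, hox]
    haveI : Z.Normal := ⟨fun u hu c => by rwa [Subgroup.mem_center_iff.mp (hZ hu) c, mul_inv_cancel_right]⟩
    have hZp : IsPGroup p Z := IsPGroup.of_card hZcard
    have hb' := isPBlock_quotBlock hM hZp hZ hf
    have hd' : blockDefect p (quotBlock Z f) = blockDefect p B - a := by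
      have h := blockDefect_quotBlock hM hZp hZ hf hZcard
      rw [hdef] at h
      omega
    have hk : blockRank p f ≤ p ^ (blockDefect p B - a) := by
      rw [blockRank_quotBlock hM hZp hZ hf]
      exact (S4733.result p M hM _ hb').1.trans ((card_le_bounds hM hb' hd').1 (by omega))
    calc blockRank p f * p ^ a ≤ p ^ (blockDefect p B - a) * p ^ a := Nat.mul_le_mul_right _ hk
      _ = _ := by rw [← pow_add, Nat.sub_add_cancel hdvd]
  · obtain ⟨E, hE, hEt, hET⟩ := exists_inertial hM hmax
    -- restrict to the automorphisms fixing `x`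
    let Ex : Subgroup (MulAut P) := E ⊓ MulAction.stabilizer (MulAut P) x
    have hEx : ¬ p ∣ Nat.card Ex := fun h => hE (h.trans (Subgroup.card_dvd_of_le inf_le_left))
    have hΩ : Nat.card (powMonoidHom p : (P ⧸ Subgroup.zpowers x) →* (P ⧸ Subgroup.zpowers x)).ker ≤
        p ^ 2 := by
      refine Nat.le_of_mul_le_mul_left ((card_omega_quot_le hmax.1.1.1
        (notMem_range_of_max hmax.1.1.1 hx hne)).trans ?_) hp.pos
      rw [← pow_succ']
      exact Nat.pow_le_pow_right hp.pos hr
    obtain ⟨z, hz⟩ := exists_regular_quot hmax.1.1.1 Ex hEx (x := x) (fun g hg => hg.2) hΩ (by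
      by_contra h
      push Not at h
      have hall : (powMonoidHom p : (P ⧸ Subgroup.zpowers x) →* (P ⧸ Subgroup.zpowers x)).ker = ⊤ :=
        eq_top_iff.2 fun w _ => h w
      rw [hall, Subgroup.card_top] at hΩ
      have h1 := Subgroup.card_eq_card_quotient_mul_card_subgroup (Subgroup.zpowers x)
      rw [Nat.card_zpowers, ha, hcardP] at h1
      have h2 := Nat.mul_le_mul_right (p ^ a) hΩ
      rw [← h1, ← pow_add] at h2
      have := (Nat.pow_le_pow_iff_right hp.one_lt).1 h2
      omega)
    have hreg : Nat.card f ≤ Nat.card P' := by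
      refine card_le_card_of_regular hM hmax' hab' (z := ((ι.symm z : P') : (Subgroup.centralizer (Subgroup.zpowers (x : G) : Set G)))) (ι.symm z).2 fun t ht htz => ?_
      obtain ⟨g, hg, hgx, hg1⟩ := hET _ ((hst t).1 ht)
      have hgfix : g x = x := Subtype.ext ((hgx x).trans (by
        rw [← (SecondMain.mem_centralizer_zpowers_iff.1 t.2).eq, mul_inv_cancel_right]))
      have hgz : g z = z := Subtype.ext ((hgx z).trans (by
        have h := congrArg Subtype.val htz
        have hzz : (((ι.symm z : P') : (Subgroup.centralizer (Subgroup.zpowers (x : G) : Set G))) : G) = z := by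
          rw [← hι, ι.apply_symm_apply]
        simpa [hzz] using h))
      refine (mem_centralizer_sub_iff P' t).2 ?_
      rw [hmap]
      exact hg1 (hz g ⟨hg, hgfix⟩ hgz)
    -- the elements of `zpowers x` contribute the rank each
    have := Fintype.ofFinite P'
    have hsum := Watanabe.card_eq_sum hM hmax' hab'
    let W : P' → ℝ := fun v => ((Watanabe.orb M P' e' v).card : ℝ)⁻¹ *
      (lrank p M P' e' (Subgroup.zpowers (v : (Subgroup.centralizer (Subgroup.zpowers (x : G) : Set G)))) : ℝ)
    have hW : (Nat.card f : ℝ) = ∑ v, W v := by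
      apply Complex.ofReal_injective
      rw [Complex.ofReal_natCast, hsum, Complex.ofReal_sum]
      refine Finset.sum_congr rfl fun v _ => ?_
      simp [W, Watanabe.wt]
    have hxP' : x' ∈ P' := by
      have : ((x' : (Subgroup.centralizer (Subgroup.zpowers (x : G) : Set G))) : G) ∈ P'.map (Subgroup.centralizer (Subgroup.zpowers (x : G) : Set G)).subtype := hmap.symm ▸ x.2
      obtain ⟨w, hw, hwx⟩ := this
      exact (Subtype.ext hwx : w = x') ▸ hw
    have hWx : ∀ v : P', (v : (Subgroup.centralizer (Subgroup.zpowers (x : G) : Set G))) ∈ Subgroup.zpowers x' → W v = blockRank p f := by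
      intro v hv
      have hvc : ∀ t : (Subgroup.centralizer (Subgroup.zpowers (x : G) : Set G)), t * (v : (Subgroup.centralizer (Subgroup.zpowers (x : G) : Set G))) * t⁻¹ = v := fun t => by
        rw [Subgroup.mem_center_iff.1 (Subgroup.zpowers_le.2 hxc hv) t, mul_inv_cancel_right]
      have horb : Watanabe.orb M P' e' v = {v} := Finset.eq_singleton_iff_unique_mem.2
        ⟨Watanabe.self_mem_orb v, fun w hw => by
          obtain ⟨t, -, hw⟩ := Watanabe.mem_orb.1 hw
          exact Subtype.ext (hw.trans (hvc t))⟩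
      simp only [W, horb, Finset.card_singleton, Nat.cast_one, inv_one, one_mul]
      rw [Watanabe.rank_eq_of_fixed hM hmax' hab' v.2 fun t _ => hvc t]
    have hbound : (p ^ a : ℝ) * blockRank p f ≤ Nat.card f := by
      rw [hW]
      refine le_trans (le_of_eq ?_) (Finset.sum_le_sum_of_subset_of_nonneg
        (Finset.subset_univ (Finset.univ.filter fun v : P' => (v : (Subgroup.centralizer (Subgroup.zpowers (x : G) : Set G))) ∈ Subgroup.zpowers x'))
        fun v _ _ => by positivity)
      rw [Finset.sum_congr rfl fun v hv => hWx v (Finset.mem_filter.1 hv).2, Finset.sum_const,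
        nsmul_eq_mul]
      congr 1
      have hcnt : (Finset.univ.filter fun v : P' => (v : (Subgroup.centralizer (Subgroup.zpowers (x : G) : Set G))) ∈ Subgroup.zpowers x').card = p ^ a := by
        rw [← Fintype.card_subtype, ← Nat.card_eq_fintype_card, ← hox, ← Nat.card_zpowers]
        exact Nat.card_congr
          { toFun := fun v => ⟨v.1.1, v.2⟩
            invFun := fun v => ⟨⟨v.1, Subgroup.zpowers_le.2 hxP' v.2⟩, v.2⟩
            left_inv := fun _ => rfl
            right_inv := fun _ => rfl }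
      exact_mod_cast hcnt.symm
    have hnat : p ^ a * blockRank p f ≤ Nat.card f := by exact_mod_cast hbound
    calc blockRank p f * p ^ a = p ^ a * blockRank p f := mul_comm _ _
      _ ≤ Nat.card P' := hnat.trans hreg
      _ = _ := by rw [hcard', hcardP]

theorem rank_three_bound (hM : IsPModular p M) (hmax : IsMaximalBrauerPair p M B P e)
    [IsMulCommutative P] (hr : Group.rank P ≤ 3) : Nat.card B ^ 3 ≤ Nat.card P ^ 5 := by
  classical
  have hp : p.Prime := Fact.out
  have hab : ∀ u ∈ P, ∀ y ∈ P, u * y = y * u := fun u hu y hy =>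
    congrArg Subtype.val (mul_comm' (⟨u, hu⟩ : P) ⟨y, hy⟩)
  let _ : CommGroup P :=
    { (inferInstance : Group P) with mul_comm := fun a b => Subtype.ext (hab a a.2 b b.2) }
  by_cases hne : Monoid.exponent P = 1
  · have hP1 : Nat.card P = 1 := by
      haveI : Subsingleton P := ⟨fun u v => by
        rw [orderOf_eq_one_iff.1 (Nat.dvd_one.1 ((Monoid.order_dvd_exponent u).trans hne.dvd)),
          orderOf_eq_one_iff.1 (Nat.dvd_one.1 ((Monoid.order_dvd_exponent v).trans hne.dvd))]⟩
      exact Nat.card_of_subsingleton 1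
    have hd : blockDefect p B = 0 := by
      have h := card_maximal hM hmax
      rw [hP1, eq_comm, Nat.pow_eq_one] at h
      exact h.resolve_left hp.one_lt.ne'
    rw [hP1, ((S4733.result p M hM B hmax.1.2.1).2.1.mp hd).1, one_pow, one_pow]
  obtain ⟨x, hx⟩ := Monoid.exists_orderOf_eq_exponent (G := P) Monoid.ExponentExists.of_finite
  obtain ⟨f, hf, hle⟩ := exists_subpair hM hmax.1.1 (Q := Subgroup.zpowers (x : G)) (Subgroup.zpowers_le.2 x.2)
  have h1 := card_le_mul_lrank hM hmax hab x.2 hf hle
  have h2 := rank_below_le hM hmax hr hx hne hf hle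
  have h3 : Nat.card P ≤ orderOf x ^ 3 := by
    rw [hx]
    exact card_le_exponent_pow.trans (Nat.pow_le_pow_right (Nat.pos_of_ne_zero Monoid.exponent_ne_zero_of_finite) hr)
  refine Nat.le_of_mul_le_mul_right ?_ (pow_pos (orderOf_pos x) 3)
  calc Nat.card B ^ 3 * orderOf x ^ 3 = (Nat.card B * orderOf x) ^ 3 := (mul_pow _ _ _).symm
    _ ≤ (Nat.card P * Nat.card P) ^ 3 := by
        refine Nat.pow_le_pow_left ((Nat.mul_le_mul_right _ h1).trans ?_) 3
        rw [mul_assoc]
        exact Nat.mul_le_mul_left _ h2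
    _ = Nat.card P ^ 5 * Nat.card P := by ring
    _ ≤ Nat.card P ^ 5 * orderOf x ^ 3 := Nat.mul_le_mul_left _ h3

end Cfsg.Agent.SmallSection
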