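import Cfsg.Agent.Lib.SmallSection.CentralQuot
import Cfsg.Agent.Lib.RegPart.Basic

/-!
# The block dominated over a central `p`-subgroup

For `D` a central `p`-subgroup of `H` and a block `b` of `H`, `quotBlock D b` is the block of `H ⧸ D`
whose inflation lies in `b`.

* `isPBlock_quotBlock`, `blockRank_quotBlock`, `blockDefect_quotBlock`
* `regInner_inflate`: scalar products on the regular elements are divided by `|D|`.
-/

set_option autoImplicit false
set_option linter.unusedSectionVars false
set_option linter.style.haveILetI false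

open scoped ComplexConjugate

namespace Cfsg.Agent.SmallSection

open Cfsg Cfsg.Agent Cfsg.Agent.Blocks

variable {H : Type*} [Group H] [Finite H] {p : ℕ} [Fact p.Prime] {M : Ideal AlgInt}
variable {D : Subgroup H} [D.Normal]

/-- The characters of the quotient with inflation in the block. -/
def quotBlock (D : Subgroup H) [D.Normal] (b : Set (IrrCharacter H)) : Set (IrrCharacter (H ⧸ D)) :=
  {ξ | Codegree.inflate D ξ ∈ b}

theorem isPBlock_quotBlock (hM : IsPModular p M) (hD : IsPGroup p D)
    (hDZ : D ≤ Subgroup.center H) {b : Set (IrrCharacter H)} (hb : IsPBlock M b) :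
    IsPBlock M (quotBlock D b) := by
  obtain ⟨hiff, hex⟩ := S0941.result p M hM D hD ⟨0, index_centralizer_of_central hDZ⟩
  obtain ⟨χ, θ, hθ, he⟩ := hex b hb
  have hθ' : θ = Codegree.inflate D χ := Subtype.ext (he.trans rfl)
  subst hθ'
  refine ⟨χ, Set.ext fun ξ => ?_⟩
  show Codegree.inflate D ξ ∈ b ↔ SameBlock M (χ : H ⧸ D → ℂ) (ξ : H ⧸ D → ℂ)
  rw [hiff]
  refine ⟨fun h => sameBlock_of_mem hM hb hθ h, fun h => ?_⟩
  obtain ⟨η, rfl⟩ := hb
  exact fun g => by
    have h1 := memI_add hM (hθ g) (h g)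
    rwa [show centralChar (η : H → ℂ) g - centralChar ((Codegree.inflate D χ : IrrCharacter H) : H → ℂ) g +
      (centralChar ((χ : H ⧸ D → ℂ) ∘ QuotientGroup.mk) g - centralChar ((ξ : H ⧸ D → ℂ) ∘ QuotientGroup.mk) g)
      = centralChar (η : H → ℂ) g - centralChar ((Codegree.inflate D ξ : IrrCharacter H) : H → ℂ) g by
      rw [show ((Codegree.inflate D χ : IrrCharacter H) : H → ℂ) = (χ : H ⧸ D → ℂ) ∘ QuotientGroup.mk from rfl,
        show ((Codegree.inflate D ξ : IrrCharacter H) : H → ℂ) = (ξ : H ⧸ D → ℂ) ∘ QuotientGroup.mk from rfl]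
      ring] at h1

theorem quotBlock_nonempty (hM : IsPModular p M) (hD : IsPGroup p D)
    (hDZ : D ≤ Subgroup.center H) {b : Set (IrrCharacter H)} (hb : IsPBlock M b) :
    (quotBlock D b).Nonempty :=
  isPBlock_nonempty hM (isPBlock_quotBlock hM hD hDZ hb)

open scoped Classical in
/-- On regular elements a member of a block is an integral combination over the dominated block. -/
theorem exists_block_expansion [Fintype (IrrCharacter (H ⧸ D))] (hM : IsPModular p M)
    (hD : IsPGroup p D) (hDZ : D ≤ Subgroup.center H) {b : Set (IrrCharacter H)} (hb : IsPBlock M b)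
    {η : IrrCharacter H} (hη : η ∈ b) :
    ∃ n : IrrCharacter (H ⧸ D) → ℤ, (∀ ξ, ξ ∉ quotBlock D b → n ξ = 0) ∧
      ∀ g : H, ¬ p ∣ orderOf g →
        (η : H → ℂ) g = ∑ ξ : IrrCharacter (H ⧸ D), (n ξ : ℂ) * (ξ : H ⧸ D → ℂ) g := by
  have := Fintype.ofFinite H
  have := Fintype.ofFinite (IrrCharacter H)
  obtain ⟨n, hn⟩ := exists_quot_expansion hD hDZ η
  refine ⟨fun ξ => if ξ ∈ quotBlock D b then n ξ else 0, fun ξ hξ => if_neg hξ, fun g hg => ?_⟩
  have hpart : ∀ (ζ : IrrCharacter H), blockPart b (ζ : H → ℂ) g =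
      if ζ ∈ b then (ζ : H → ℂ) g else 0 := by
    intro ζ
    rw [SecondMain.blockPart_apply, finsum_mem_eq_toFinset_sum]
    simp only [fun ξ : IrrCharacter H => Char.classInner_irr ζ.2 ξ.2, ite_mul, one_mul, zero_mul]
    by_cases h : ζ ∈ b
    · rw [Finset.sum_eq_single ζ (fun ξ _ hne => if_neg fun e => hne (Subtype.ext e.symm))
        (fun h' => absurd (Set.mem_toFinset.mpr h) h'), if_pos rfl, if_pos h]
    · rw [if_neg h]
      exact Finset.sum_eq_zero fun ξ hξ => if_neg fun e =>
        h ((Subtype.ext e : ζ = ξ) ▸ Set.mem_toFinset.mp hξ)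
  have h1 : blockPart b (η : H → ℂ) g = blockPart b
      (∑ ξ : IrrCharacter (H ⧸ D), (n ξ : ℂ) • (Codegree.inflate D ξ : H → ℂ)) g :=
    SecondMain.blockPart_congr_regular hM hb (fun m hm => by
      rw [hn m hm, Finset.sum_apply]; rfl) hg
  rw [hpart, if_pos hη, SecondMain.blockPart_sum_smul] at h1
  rw [h1]
  refine Finset.sum_congr rfl fun ξ _ => ?_
  rw [hpart]
  beta_reduce
  by_cases h : Codegree.inflate D ξ ∈ b
  · rw [if_pos h, if_pos (show ξ ∈ quotBlock D b from h)]
    rfl
  · rw [if_neg h, if_neg (show ξ ∉ quotBlock D b from h), Int.cast_zero, zero_mul, mul_zero]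

theorem not_dvd_orderOf_mk {g : H} (hg : ¬ p ∣ orderOf g) : ¬ p ∣ orderOf (g : H ⧸ D) :=
  fun h => hg (h.trans (orderOf_map_dvd (QuotientGroup.mk' D) g))

theorem mk_regP {y : H} (hy : ¬ p ∣ orderOf (y : H ⧸ D)) :
    ((regP p y : H) : H ⧸ D) = (y : H ⧸ D) := by
  have hp : p.Prime := Fact.out
  obtain ⟨-, he⟩ := regP_spec (p := p) y
  have h1 : ((FrobSection.pp p y : H) : H ⧸ D) = 1 := by
    obtain ⟨k, hk⟩ := FrobSection.exists_orderOf_pp (p := p) y
    obtain ⟨i, hi⟩ := (FrobSection.pp_mem_zpowers (p := p) y).1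
    have hd1 : orderOf ((FrobSection.pp p y : H) : H ⧸ D) ∣ p ^ k :=
      hk ▸ orderOf_map_dvd (QuotientGroup.mk' D) _
    have hd2 : orderOf ((FrobSection.pp p y : H) : H ⧸ D) ∣ orderOf (y : H ⧸ D) := by
      rw [← show y ^ i = FrobSection.pp p y from hi, QuotientGroup.mk_zpow]
      exact orderOf_dvd_of_mem_zpowers ⟨i, rfl⟩
    exact orderOf_eq_one_iff.mp (Nat.eq_one_of_dvd_coprimes
      ((hp.coprime_iff_not_dvd.mpr hy).pow_left k) hd1 hd2)
  conv_rhs => rw [← he]
  rw [QuotientGroup.mk_mul, h1, one_mul]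

/-- Functions on the quotient, read on the regular elements. -/
noncomputable def pullReg (p : ℕ) (D : Subgroup H) [D.Normal] : (H ⧸ D → ℂ) →ₗ[ℂ] (H → ℂ) where
  toFun f := pRegularPart p fun g : H => f (g : H ⧸ D)
  map_add' f f' := by
    funext g
    simp only [Pi.add_apply, pRegularPart]
    split_ifs <;> simp
  map_smul' a f := by
    funext g
    simp only [Pi.smul_apply, RingHom.id_apply, pRegularPart]
    split_ifs <;> simp

theorem pullReg_apply (f : H ⧸ D → ℂ) : pullReg p D f = pRegularPart p fun g : H => f (g : H ⧸ D) := rfl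

/-- Domination preserves the rank on regular elements. -/
theorem blockRank_quotBlock (hM : IsPModular p M) (hD : IsPGroup p D)
    (hDZ : D ≤ Subgroup.center H) {b : Set (IrrCharacter H)} (hb : IsPBlock M b) :
    blockRank p b = blockRank p (quotBlock D b) := by
  classical
  have := Fintype.ofFinite (IrrCharacter (H ⧸ D))
  set S := Submodule.span ℂ
    ((fun χ : IrrCharacter (H ⧸ D) => pRegularPart p (χ : H ⧸ D → ℂ)) '' quotBlock D b) with hS
  have hinf : ∀ ξ : IrrCharacter (H ⧸ D), pullReg p D (pRegularPart p (ξ : H ⧸ D → ℂ))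
      = pRegularPart p (Codegree.inflate D ξ : H → ℂ) := fun ξ => funext fun g => by
    rw [pullReg_apply]
    by_cases hg : p ∣ orderOf g
    · rw [SecondMain.pRegularPart_of_singular hg, SecondMain.pRegularPart_of_singular hg]
    · rw [SecondMain.pRegularPart_of_regular hg, SecondMain.pRegularPart_of_regular hg,
        SecondMain.pRegularPart_of_regular (not_dvd_orderOf_mk hg)]
      rfl
  have hmap : S.map (pullReg p D) =
      Submodule.span ℂ ((fun χ : IrrCharacter H => pRegularPart p (χ : H → ℂ)) '' b) := by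
    refine le_antisymm ?_ ?_
    · rw [hS, Submodule.map_span, Submodule.span_le]
      rintro _ ⟨_, ⟨ξ, hξ, rfl⟩, rfl⟩
      exact Submodule.subset_span ⟨_, hξ, (hinf ξ).symm⟩
    · rw [Submodule.span_le]
      rintro _ ⟨η, hη, rfl⟩
      obtain ⟨n, hn0, hn⟩ := exists_block_expansion hM hD hDZ hb hη
      refine ⟨∑ ξ : IrrCharacter (H ⧸ D), (n ξ : ℂ) • pRegularPart p (ξ : H ⧸ D → ℂ),
        Submodule.sum_mem _ fun ξ _ => ?_, ?_⟩
      · by_cases h : ξ ∈ quotBlock D b
        · exact S.smul_mem _ (Submodule.subset_span ⟨ξ, h, rfl⟩)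
        · rw [hn0 ξ h, Int.cast_zero, zero_smul]
          exact S.zero_mem
      · simp only [map_sum, map_smul, hinf]
        funext g
        rw [Finset.sum_apply]
        by_cases hg : p ∣ orderOf g
        · rw [SecondMain.pRegularPart_of_singular hg]
          exact Finset.sum_eq_zero fun ξ _ => by
            rw [Pi.smul_apply, SecondMain.pRegularPart_of_singular hg, smul_zero]
        · rw [SecondMain.pRegularPart_of_regular hg, hn g hg]
          exact Finset.sum_congr rfl fun ξ _ => by
            rw [Pi.smul_apply, SecondMain.pRegularPart_of_regular hg, smul_eq_mul]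
            rfl
  have hsupp : ∀ f ∈ S, ∀ q : H ⧸ D, p ∣ orderOf q → f q = 0 := by
    intro f hf
    induction hf using Submodule.span_induction with
    | mem f hf =>
      obtain ⟨ξ, -, rfl⟩ := hf
      exact fun q hq => SecondMain.pRegularPart_of_singular hq
    | zero => exact fun q _ => rfl
    | add f f' _ _ h h' => exact fun q hq => by rw [Pi.add_apply, h q hq, h' q hq, add_zero]
    | smul a f _ h => exact fun q hq => by rw [Pi.smul_apply, h q hq, smul_zero]
  have hinj : Function.Injective ((pullReg p D).domRestrict S) := by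
    rw [← LinearMap.ker_eq_bot, LinearMap.ker_eq_bot']
    rintro ⟨f, hf⟩ h
    refine Subtype.ext (funext fun q => ?_)
    by_cases hq : p ∣ orderOf q
    · exact hsupp f hf q hq
    · obtain ⟨y, rfl⟩ := QuotientGroup.mk'_surjective D q
      have h1 := congrFun h (regP p y)
      rw [LinearMap.domRestrict_apply, pullReg_apply (D := D),
        SecondMain.pRegularPart_of_regular (regP_spec y).1] at h1
      show f (y : H ⧸ D) = 0
      rw [← mk_regP (p := p) hq]
      exact h1
  show Module.finrank ℂ (Submodule.span ℂ _ : Submodule ℂ (H → ℂ)) = Module.finrank ℂ S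
  rw [← hmap, ← LinearMap.finrank_range_of_inj hinj, LinearMap.range_domRestrict]

/-- Domination lowers the defect by the exponent of the subgroup. -/
theorem blockDefect_quotBlock (hM : IsPModular p M) (hD : IsPGroup p D)
    (hDZ : D ≤ Subgroup.center H) {b : Set (IrrCharacter H)} (hb : IsPBlock M b) {e : ℕ}
    (he : Nat.card D = p ^ e) : blockDefect p b = blockDefect p (quotBlock D b) + e := by
  classical
  have := Fintype.ofFinite (IrrCharacter (H ⧸ D))
  have hp : p.Prime := Fact.out
  have hdeg : ∀ ξ : IrrCharacter (H ⧸ D),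
      charDegree (Codegree.inflate D ξ : H → ℂ) = charDegree (ξ : H ⧸ D → ℂ) := fun ξ => rfl
  have hnu : (Nat.card H).factorization p = (Nat.card (H ⧸ D)).factorization p + e := by
    rw [← Subgroup.card_mul_index D, Nat.factorization_mul Nat.card_pos.ne' Subgroup.index_ne_zero_of_finite,
      Finsupp.add_apply, he, hp.factorization_pow, Finsupp.single_eq_same, add_comm]
    rfl
  obtain ⟨ξ₀, hξ₀, hmin⟩ := Nat.sInf_mem ((quotBlock_nonempty hM hD hDZ hb).image
    fun χ : IrrCharacter (H ⧸ D) => (charDegree (χ : H ⧸ D → ℂ)).factorization p)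
  set a' := sInf ((fun χ : IrrCharacter (H ⧸ D) =>
    (charDegree (χ : H ⧸ D → ℂ)).factorization p) '' quotBlock D b) with ha'
  obtain ⟨η, hη, hηmin⟩ := Nat.sInf_mem ((isPBlock_nonempty hM hb).image
    fun χ : IrrCharacter H => (charDegree (χ : H → ℂ)).factorization p)
  set a := sInf ((fun χ : IrrCharacter H => (charDegree (χ : H → ℂ)).factorization p) '' b) with ha
  have hle : a ≤ a' := by
    rw [← hmin]
    exact Nat.sInf_le ⟨Codegree.inflate D ξ₀, hξ₀, congrArg (fun m => m.factorization p) (hdeg ξ₀)⟩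
  have hge : a' ≤ a := by
    obtain ⟨n, hn0, hn⟩ := exists_block_expansion hM hD hDZ hb hη
    have h1 := hn 1 (by rw [orderOf_one]; exact hp.not_dvd_one)
    have h2 : ((charDegree (η : H → ℂ) : ℤ) : ℂ) =
        ((∑ ξ : IrrCharacter (H ⧸ D), n ξ * (charDegree (ξ : H ⧸ D → ℂ) : ℤ) : ℤ) : ℂ) := by
      rw [Int.cast_natCast, charDegree_cast, h1]
      push_cast
      simp only [charDegree_cast, QuotientGroup.mk_one]
    have h3 : ((p ^ a' : ℕ) : ℤ) ∣ (charDegree (η : H → ℂ) : ℤ) := by
      rw [Int.cast_injective h2]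
      refine Finset.dvd_sum fun ξ _ => ?_
      by_cases h : ξ ∈ quotBlock D b
      · exact dvd_mul_of_dvd_right (Int.natCast_dvd_natCast.mpr
          ((hp.pow_dvd_iff_le_factorization (charDegree_pos ξ).ne').mpr (Nat.sInf_le (show (charDegree (ξ : H ⧸ D → ℂ)).factorization p ∈ (fun χ : IrrCharacter (H ⧸ D) =>
            (charDegree (χ : H ⧸ D → ℂ)).factorization p) '' quotBlock D b from ⟨ξ, h, rfl⟩)))) _
      · rw [hn0 ξ h, zero_mul]
        exact dvd_zero _
    simp only at hηmin
    rw [← hηmin]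
    exact (hp.pow_dvd_iff_le_factorization (charDegree_pos η).ne').mp (Int.natCast_dvd_natCast.mp h3)
  have hle' : a' ≤ (Nat.card (H ⧸ D)).factorization p := by
    rw [← hmin]
    exact (Nat.factorization_le_iff_dvd (charDegree_pos ξ₀).ne' Nat.card_pos.ne').2
      (charDegree_dvd_card ξ₀) p
  rw [blockDefect, blockDefect, ← ha', ← ha, hnu, le_antisymm hle hge]
  omega

/-- Scalar products on the regular elements of inflated functions. -/
theorem regInner_inflate [Fintype H] [Fintype (H ⧸ D)] (hD : IsPGroup p D)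
    (hDZ : D ≤ Subgroup.center H) (F F' : H ⧸ D → ℂ) :
    (Nat.card D : ℂ) * SecondMain.regInner p (fun g : H => F g) (fun g : H => F' g) =
      SecondMain.regInner p F F' := by
  classical
  have hsum : ∑ g ∈ Finset.univ.filter (fun g : H => ¬ p ∣ orderOf g), F g * conj (F' g) =
      ∑ q ∈ Finset.univ.filter (fun q : H ⧸ D => ¬ p ∣ orderOf q), F q * conj (F' q) := by
    refine Finset.sum_bij (fun g _ => (g : H ⧸ D)) (fun g hg => ?_) (fun g hg g' hg' h => ?_)
      (fun q hq => ?_) fun g _ => rfl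
    · exact Finset.mem_filter.mpr ⟨Finset.mem_univ _, not_dvd_orderOf_mk (Finset.mem_filter.mp hg).2⟩
    · have hu : g⁻¹ * g' ∈ D := QuotientGroup.eq.mp h
      obtain ⟨k, hk⟩ := IsPGroup.iff_orderOf.mp hD ⟨_, hu⟩
      have h1 := regP_mul_central (p := p) ⟨k, by rw [← hk, ← Subgroup.orderOf_coe]⟩
        (Subgroup.mem_center_iff.mp (hDZ hu) g)
      rw [mul_inv_cancel_left, regP_eq_self (Finset.mem_filter.mp hg).2,
        regP_eq_self (Finset.mem_filter.mp hg').2] at h1
      exact h1.symm
    · obtain ⟨y, rfl⟩ := QuotientGroup.mk'_surjective D q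
      exact ⟨regP p y, Finset.mem_filter.mpr ⟨Finset.mem_univ _, (regP_spec y).1⟩,
        mk_regP (Finset.mem_filter.mp hq).2⟩
  rw [SecondMain.regInner_eq_sum, SecondMain.regInner_eq_sum, hsum, ← mul_assoc]
  congr 1
  rw [← Subgroup.card_mul_index D, Nat.cast_mul, mul_inv, ← mul_assoc,
    mul_inv_cancel₀ (Nat.cast_ne_zero.mpr Nat.card_pos.ne'), one_mul]
  rfl

end Cfsg.Agent.SmallSection
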