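import Cfsg.Agent.Lib.SmallSection.CentralQuot
import Cfsg.Agent.Lib.SecondMain.Support

/-!
# A basis for the principal block over a central subgroup of order `p`

`principal_basis`: for `z` central of order `p` with `p` exactly dividing `|H ⧸ ⟨z⟩|`.
-/

set_option autoImplicit false
set_option linter.style.haveILetI false

open scoped ComplexConjugate

namespace Cfsg.Agent.SmallSection

open Cfsg Cfsg.Agent Cfsg.Agent.Blocks

/-- The signed non-exceptional characters of a block of defect one span it on the regular elements. -/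
theorem cyclic_basis {Q : Type*} [Group Q] [Finite Q] {p : ℕ} [Fact p.Prime] {M : Ideal AlgInt}
    (hM : IsPModular p M) (hp1 : p ∣ Nat.card Q) (hp2 : ¬ p ^ 2 ∣ Nat.card Q) :
    ∃ (e t : ℕ) (φ : Fin e → Q → ℂ), e + t ≤ p ∧ (∀ i, IsIntegral ℤ (φ i 1)) ∧
      (∀ ξ ∈ principalBlock M Q, ∃ n : Fin e → ℤ, ∀ g : Q, ¬ p ∣ orderOf g →
        (ξ : Q → ℂ) g = ∑ i, (n i : ℂ) * φ i g) ∧
      (∀ g g' : Q, ¬ p ∣ orderOf g → ¬ p ∣ orderOf g' → SecondMain.colSum (principalBlock M Q) g g' =
        ∑ i, ∑ j, ((if i = j then 1 else 0) + (t : ℂ)) * (φ i g * conj (φ j g'))) ∧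
      (∀ a : Fin e → ℂ, (∀ g : Q, ¬ p ∣ orderOf g → ∑ i, a i * φ i g = 0) → a = 0) := by
  classical
  have hp : p.Prime := Fact.out
  obtain ⟨x, hx⟩ := exists_prime_orderOf_dvd_card' p hp1
  obtain ⟨L, hS⟩ := CyclicDefect.exists_setting hp hx hp2
  have := Fintype.ofFinite Q
  have := Fintype.ofFinite (IrrCharacter Q)
  haveI := hS.normal_K
  set B := principalBlock M Q
  have hB : IsPBlock M B := BrauerPairs.isPBlock_principal
  have hl := CyclicDefect.lies_principal hS hM
  set U' := CyclicDefect.U hS (CyclicDefect.oneK x L : CyclicDefect.K x L → ℂ)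
  obtain ⟨hk, exc, ε, δ, hinj, hexcB, hε, -, hcst, hrel⟩ := CyclicDefect.block_structure hS hM hB hl
  set s : Finset (IrrCharacter Q) := Finset.univ.filter fun χ => χ ∈ B ∧ χ ∉ Set.range exc
  set t := Nat.card ((ZMod p)ˣ ⧸ U')
  set e := Nat.card U'
  have hprod : e * t = p - 1 := CyclicDefect.card_units_eq hS _
  have hscard : s.card = e := by
    have h1 : s = B.toFinset \ Finset.univ.image exc := by
      ext χ; simp [s]
    rw [h1, Finset.card_sdiff_of_subset (fun χ hχ => by
      obtain ⟨c, -, rfl⟩ := Finset.mem_image.mp hχ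
      exact Set.mem_toFinset.mpr (hexcB c)), Finset.card_image_of_injective _ hinj, Finset.card_univ,
      ← Nat.card_eq_fintype_card, Set.toFinset_card, ← Nat.card_eq_fintype_card, hk, Nat.add_sub_cancel_right]
  have hrank : blockRank p B = e := by
    have h := CyclicDefect.card_sub_blockRank hS hM hB hl
    rw [hk, ← hprod] at h
    push_cast at h
    have he : (e : ℂ) ≠ 0 := Nat.cast_ne_zero.mpr Nat.card_pos.ne'
    have h1 : ((e : ℂ) + t - (blockRank p B : ℂ)) * e = (t : ℂ) * e := by linear_combination h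
    have h2 := mul_right_cancel₀ he h1
    have h3 : (blockRank p B : ℂ) = (e : ℂ) := by linear_combination -h2
    exact_mod_cast h3
  let ix : Fin e ≃ {χ // χ ∈ s} := (Fintype.equivFinOfCardEq ((Fintype.card_coe s).trans hscard)).symm
  let φ : Fin e → Q → ℂ := fun i g => (δ (ix i).1 : ℂ) * ((ix i).1 : Q → ℂ) g
  have hsum : ∀ f : IrrCharacter Q → ℂ, ∑ i, f (ix i).1 = ∑ χ ∈ s, f χ := fun f => by
    rw [ix.sum_comp (fun χ => f χ.1), ← Finset.sum_coe_sort s f]
  have hδ : ∀ χ ∈ s, (δ χ : ℂ) * (δ χ : ℂ) = 1 := fun χ hχ => by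
    obtain ⟨-, h1, h2⟩ := Finset.mem_filter.mp hχ
    rcases (hcst χ h1 h2).1 with h | h <;> rw [h] <;> norm_num
  have hεε : (ε : ℂ) * (ε : ℂ) = 1 := by rcases hε with h | h <;> rw [h] <;> norm_num
  have hexc : ∀ c, ∀ g : Q, ¬ p ∣ orderOf g → (exc c : Q → ℂ) g = -(ε : ℂ) * ∑ i, φ i g := fun c g hg => by
    have h : ∑ χ ∈ s, (δ χ : ℂ) * (χ : Q → ℂ) g + (ε : ℂ) * (exc c : Q → ℂ) g = 0 := by
      convert hrel g hg c using 3
      ext χ; simp [s]
    rw [hsum fun χ => (δ χ : ℂ) * (χ : Q → ℂ) g]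
    linear_combination (ε : ℂ) * h - (exc c : Q → ℂ) g * hεε
  have hexp : ∀ ξ ∈ B, ∃ n : Fin e → ℤ, ∀ g : Q, ¬ p ∣ orderOf g →
      (ξ : Q → ℂ) g = ∑ i, (n i : ℂ) * φ i g := by
    intro ξ hξ
    by_cases h : ξ ∈ Set.range exc
    · obtain ⟨c, rfl⟩ := h
      exact ⟨fun _ => -ε, fun g hg => by rw [hexc c g hg, Finset.mul_sum]; push_cast; rfl⟩
    · have hs : ξ ∈ s := Finset.mem_filter.mpr ⟨Finset.mem_univ _, hξ, h⟩
      refine ⟨fun i => if ix i = ⟨ξ, hs⟩ then δ ξ else 0, fun g _ => ?_⟩
      rw [Finset.sum_eq_single (ix.symm ⟨ξ, hs⟩)]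
      · simp only [φ, Equiv.apply_symm_apply, if_pos]
        rw [← mul_assoc, hδ ξ hs, one_mul]
      · intro i _ hi
        beta_reduce
        rw [if_neg fun e => hi (by rw [← e, Equiv.symm_apply_apply]), Int.cast_zero, zero_mul]
      · exact fun h' => absurd (Finset.mem_univ _) h'
  have hle : e + t ≤ p := by
    have he : 1 ≤ e := Nat.card_pos
    have ht : 1 ≤ t := Nat.card_pos
    have hp2' := hp.two_le
    obtain ⟨e', he'⟩ : ∃ e', e = e' + 1 := ⟨e - 1, by omega⟩
    obtain ⟨t', ht'⟩ : ∃ t', t = t' + 1 := ⟨t - 1, by omega⟩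
    rw [he', ht'] at hprod ⊢
    have : (e' + 1) * (t' + 1) = e' * t' + e' + t' + 1 := by ring
    omega
  refine ⟨e, t, φ, hle, fun i => ?_, hexp, fun g g' hg hg' => ?_, fun a ha => ?_⟩
  · exact IsIntegral.mul (by simpa using isIntegral_algebraMap (R := ℤ) (A := ℂ) (x := δ (ix i).1))
      (isIntegral_irr _ _)
  · have hsplit : SecondMain.colSum B g g' = ∑ χ ∈ s, (χ : Q → ℂ) g * conj ((χ : Q → ℂ) g') +
        ∑ c, (exc c : Q → ℂ) g * conj ((exc c : Q → ℂ) g') := by
      rw [SecondMain.colSum, finsum_mem_eq_toFinset_sum,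
        ← Finset.sum_filter_add_sum_filter_not B.toFinset (fun χ => χ ∉ Set.range exc)]
      congr 1
      · exact Finset.sum_congr (by ext χ; simp [s]) fun _ _ => rfl
      · rw [← Finset.sum_image (f := fun χ : IrrCharacter Q => (χ : Q → ℂ) g * conj ((χ : Q → ℂ) g'))
          (fun a _ b _ h => hinj h)]
        refine Finset.sum_congr ?_ fun _ _ => rfl
        ext χ
        simp only [Finset.mem_filter, Set.mem_toFinset, not_not, Finset.mem_image, Finset.mem_univ, true_and,
          Set.mem_range]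
        exact ⟨fun h => h.2, fun ⟨c, hc⟩ => ⟨hc ▸ hexcB c, c, hc⟩⟩
    have hc : ∑ c, (exc c : Q → ℂ) g * conj ((exc c : Q → ℂ) g') =
        (t : ℂ) * ((∑ i, φ i g) * conj (∑ j, φ j g')) := by
      rw [Finset.sum_congr rfl (g := fun _ => (∑ i, φ i g) * conj (∑ j, φ j g')) (fun c _ => by
        rw [hexc c g hg, hexc c g' hg', map_mul, map_neg, map_intCast]
        linear_combination ((∑ i, φ i g) * conj (∑ j, φ j g')) * hεε),
        Finset.sum_const, Finset.card_univ, ← Nat.card_eq_fintype_card, nsmul_eq_mul]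
    rw [hsplit, hc, ← hsum fun χ => (χ : Q → ℂ) g * conj ((χ : Q → ℂ) g')]
    simp only [add_mul, Finset.sum_add_distrib, ite_mul, one_mul, zero_mul, Finset.sum_ite_eq,
      Finset.mem_univ, if_true, map_sum, Finset.sum_mul, Finset.mul_sum]
    refine congrArg₂ (· + ·) ?_ Finset.sum_comm
    refine Finset.sum_congr rfl fun i _ => ?_
    simp only [φ, map_mul, map_intCast]
    linear_combination -(((ix i).1 : Q → ℂ) g * conj (((ix i).1 : Q → ℂ) g')) * hδ _ (ix i).2
  · have hspan : Submodule.span ℂ ((fun χ : IrrCharacter Q => pRegularPart p (χ : Q → ℂ)) '' B) ≤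
        Submodule.span ℂ (Set.range fun i => pRegularPart p (φ i)) := by
      rw [Submodule.span_le]
      rintro _ ⟨ξ, hξ, rfl⟩
      obtain ⟨n, hn⟩ := hexp ξ hξ
      have h1 : pRegularPart p (ξ : Q → ℂ) = ∑ i, (n i : ℂ) • pRegularPart p (φ i) := by
        funext g
        rw [Finset.sum_apply]
        by_cases hg : p ∣ orderOf g
        · rw [SecondMain.pRegularPart_of_singular hg]
          exact (Finset.sum_eq_zero fun i _ => by
            rw [Pi.smul_apply, SecondMain.pRegularPart_of_singular hg, smul_zero]).symm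
        · rw [SecondMain.pRegularPart_of_regular hg, hn g hg]
          exact Finset.sum_congr rfl fun i _ => by
            rw [Pi.smul_apply, SecondMain.pRegularPart_of_regular hg, smul_eq_mul]
      show pRegularPart p (ξ : Q → ℂ) ∈ _
      rw [h1]
      exact Submodule.sum_mem _ fun i _ => Submodule.smul_mem _ _ (Submodule.subset_span ⟨i, rfl⟩)
    have hli : LinearIndependent ℂ (fun i => pRegularPart p (φ i)) := by
      rw [linearIndependent_iff_card_eq_finrank_span, Fintype.card_fin]
      refine le_antisymm ?_ (finrank_range_le_card (b := fun i => pRegularPart p (φ i)) |>.trans_eq (Fintype.card_fin e))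
      conv_lhs => rw [← hrank]
      exact Submodule.finrank_mono hspan
    refine funext (Fintype.linearIndependent_iff.mp hli a ?_)
    funext g
    rw [Finset.sum_apply, Pi.zero_apply]
    by_cases hg : p ∣ orderOf g
    · exact Finset.sum_eq_zero fun i _ => by
        rw [Pi.smul_apply, SecondMain.pRegularPart_of_singular hg, smul_zero]
    · rw [← ha g hg]
      exact Finset.sum_congr rfl fun i _ => by
        rw [Pi.smul_apply, SecondMain.pRegularPart_of_regular hg, smul_eq_mul]

variable {H : Type*} [Group H] [Finite H] {p : ℕ} [Fact p.Prime] {M : Ideal AlgInt}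

theorem principal_basis (hM : IsPModular p M) {z : H} (hz : z ∈ Subgroup.center H) (hzp : orderOf z = p)
    (hsyl : (Nat.card H).factorization p = 2) :
    ∃ (e t : ℕ) (φ : Fin e → H → ℂ), e + t ≤ p ∧ (∀ i, IsIntegral ℤ (φ i 1)) ∧
      (∀ η ∈ principalBlock M H, ∃ n : Fin e → ℤ, ∀ g : H, ¬ p ∣ orderOf g →
        (η : H → ℂ) g = ∑ i, (n i : ℂ) * φ i g) ∧
      (∀ g g' : H, ¬ p ∣ orderOf g → ¬ p ∣ orderOf g' → SecondMain.colSum (principalBlock M H) g g' =
        (p : ℂ) * ∑ i, ∑ j, ((if i = j then 1 else 0) + (t : ℂ)) * (φ i g * conj (φ j g'))) ∧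
      (∀ a : Fin e → ℂ, (∀ g : H, ¬ p ∣ orderOf g → ∑ i, a i * φ i g = 0) → a = 0) := by
  classical
  have hp : p.Prime := Fact.out
  set D := Subgroup.zpowers z
  have hDZ : D ≤ Subgroup.center H := Subgroup.zpowers_le.mpr hz
  have hDcard : Nat.card D = p := by rw [Nat.card_zpowers, hzp]
  have hD : IsPGroup p D := IsPGroup.of_card (n := 1) (by rw [hDcard, pow_one])
  haveI : D.Normal := ⟨fun u hu g => by rwa [Subgroup.mem_center_iff.mp (hDZ hu) g, mul_inv_cancel_right]⟩
  have hQ : (Nat.card (H ⧸ D)).factorization p = 1 := by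
    have h := hsyl
    rw [← Subgroup.card_mul_index D, Nat.factorization_mul Nat.card_pos.ne' Subgroup.index_ne_zero_of_finite,
      Finsupp.add_apply, hDcard, hp.factorization_self] at h
    show D.index.factorization p = 1
    omega
  obtain ⟨e, t, φ, hle, hint, hexp, hcol, hind⟩ := cyclic_basis hM
    (Nat.dvd_of_factorization_pos (by rw [hQ]; exact one_ne_zero))
    (fun h => by have := (hp.pow_dvd_iff_le_factorization Nat.card_pos.ne').mp h; omega)
  have := Fintype.ofFinite H
  have := Fintype.ofFinite (IrrCharacter H)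
  have := Fintype.ofFinite (IrrCharacter (H ⧸ D))
  have hreg : ∀ g : H, ¬ p ∣ orderOf g → ¬ p ∣ orderOf (g : H ⧸ D) := fun g hg h =>
    hg (h.trans (orderOf_map_dvd (QuotientGroup.mk' D) g))
  refine ⟨e, t, fun i g => φ i g, hle, hint, fun η hη => ?_, fun g g' hg hg' => ?_, fun a ha => ?_⟩
  · obtain ⟨n, hn⟩ := exists_principal_expansion hM hD hDZ hη
    choose m hm using hexp
    refine ⟨fun i => ∑ ξ : principalBlock M (H ⧸ D), n ξ.1 * m ξ.1 ξ.2 i, fun g hg => ?_⟩
    rw [hn g hg, Finset.sum_subtype (Finset.univ.filter (· ∈ principalBlock M (H ⧸ D)))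
      (p := (· ∈ principalBlock M (H ⧸ D))) (by simp) (fun ξ => (n ξ : ℂ) * (ξ : H ⧸ D → ℂ) g),
      Finset.sum_congr rfl fun (ξ : principalBlock M (H ⧸ D)) _ => by
        rw [hm ξ.1 ξ.2 (g : H ⧸ D) (hreg g hg), Finset.mul_sum], Finset.sum_comm]
    refine Finset.sum_congr rfl fun i _ => ?_
    push_cast
    rw [Finset.sum_mul]
    exact Finset.sum_congr rfl fun ξ _ => by ring
  · choose l hl1 hl using fun η : IrrCharacter H => SecondMain.exists_central_scalar hz η
    have hb : IsPBlock M (principalBlock M H) := BrauerPairs.isPBlock_principal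
    have hlp : ∀ (η : IrrCharacter H) (j : ℕ) (y : H), (η : H → ℂ) (z ^ j * y) = l η ^ j * (η : H → ℂ) y := by
      intro η j y
      induction j with
      | zero => simp
      | succ j ih => rw [pow_succ', mul_assoc, hl, ih, pow_succ']; ring
    have hsum0 : ∀ j ∈ Finset.range p, (∑ η ∈ (principalBlock M H).toFinset,
        l η ^ j * ((η : H → ℂ) g * conj ((η : H → ℂ) g'))) =
        if j = 0 then SecondMain.colSum (principalBlock M H) g g' else 0 := by
      intro j hj
      have he : (∑ η ∈ (principalBlock M H).toFinset, l η ^ j * ((η : H → ℂ) g * conj ((η : H → ℂ) g'))) =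
          SecondMain.colSum (principalBlock M H) (z ^ j * g) g' := by
        rw [SecondMain.colSum, finsum_mem_eq_toFinset_sum]
        exact Finset.sum_congr rfl fun η _ => by rw [hlp]; ring
      rw [he]
      split_ifs with h
      · rw [h, pow_zero, one_mul]
      · rw [← one_mul g']
        refine SecondMain.colSum_eq_zero hM hb ?_ ⟨0, by simp⟩ hg hg'
          (Commute.pow_left (Subgroup.mem_center_iff.mp hz g).symm j) (Commute.one_left _) ?_
        · obtain ⟨k, hk⟩ := IsPGroup.iff_orderOf.mp hD ⟨z ^ j, Subgroup.npow_mem_zpowers z j⟩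
          exact ⟨k, by rw [← hk, ← Subgroup.orderOf_coe]⟩
        · intro hc
          have h1 : z ^ j = 1 := isConj_one_left.mp hc
          exact h (Nat.eq_zero_of_dvd_of_lt (hzp ▸ orderOf_dvd_of_pow_eq_one h1) (Finset.mem_range.mp hj))
    have hgeo : ∀ η : IrrCharacter H, ∑ j ∈ Finset.range p, l η ^ j = if l η = 1 then (p : ℂ) else 0 := by
      intro η
      split_ifs with h
      · simp [h]
      · have h1 : l η ^ p = 1 := by rw [← hzp]; exact hl1 η
        rw [geom_sum_eq h, h1, sub_self, zero_div]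
    have hA : SecondMain.colSum (principalBlock M H) g g' = (p : ℂ) *
        ∑ η ∈ (principalBlock M H).toFinset.filter (fun η => l η = 1),
          (η : H → ℂ) g * conj ((η : H → ℂ) g') := by
      have h := Finset.sum_congr rfl hsum0
      rw [Finset.sum_ite_eq', if_pos (Finset.mem_range.mpr hp.pos), Finset.sum_comm] at h
      rw [← h, Finset.mul_sum, Finset.sum_filter]
      refine Finset.sum_congr rfl fun η _ => ?_
      rw [← Finset.sum_mul, hgeo]
      split_ifs <;> ring
    rw [hA, ← hcol (g : H ⧸ D) (g' : H ⧸ D) (hreg g hg) (hreg g' hg')]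
    congr 1
    rw [SecondMain.colSum, finsum_mem_eq_toFinset_sum]
    have hinj : Function.Injective (Codegree.inflate D) := fun ξ ξ' h => Subtype.ext (funext fun q => by
      obtain ⟨y, rfl⟩ := QuotientGroup.mk'_surjective D q
      exact congrFun (congrArg Subtype.val h) y)
    have himg : (principalBlock M (H ⧸ D)).toFinset.image (Codegree.inflate D) =
        (principalBlock M H).toFinset.filter (fun η => l η = 1) := by
      ext η
      simp only [Finset.mem_image, Set.mem_toFinset, Finset.mem_filter]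
      constructor
      · rintro ⟨ξ, hξ, rfl⟩
        refine ⟨(inflate_mem_principal_iff hM hD hDZ ξ).mpr hξ, ?_⟩
        have h := hl (Codegree.inflate D ξ) 1
        rw [mul_one, Codegree.inflate_apply, Codegree.inflate_apply,
          (QuotientGroup.eq_one_iff z).mpr (Subgroup.mem_zpowers z), QuotientGroup.mk_one] at h
        exact mul_right_cancel₀ (irr_one_ne_zero ξ) (h.symm.trans (one_mul _).symm)
      · rintro ⟨hη, h1⟩
        obtain ⟨ξ, hξ⟩ := Codegree.exists_quot η D (Subgroup.zpowers_le.mpr (by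
          rw [Codegree.mem_kerSub]
          have h := hl η 1
          rwa [mul_one, h1, one_mul] at h))
        have he : Codegree.inflate D ξ = η := Subtype.ext (funext hξ)
        exact ⟨ξ, (inflate_mem_principal_iff hM hD hDZ ξ).mp (he ▸ hη), he⟩
    rw [← himg, Finset.sum_image fun a _ b _ h => hinj h]
    rfl
  · refine hind a fun q hq => ?_
    obtain ⟨y, rfl⟩ := QuotientGroup.mk'_surjective D q
    obtain ⟨hr, he⟩ := regP_spec (p := p) y
    have h1 : ((FrobSection.pp p y : H) : H ⧸ D) = 1 := by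
      obtain ⟨k, hk⟩ := FrobSection.exists_orderOf_pp (p := p) y
      obtain ⟨i, hi⟩ := (FrobSection.pp_mem_zpowers (p := p) y).1
      have hd1 : orderOf ((FrobSection.pp p y : H) : H ⧸ D) ∣ p ^ k :=
        hk ▸ orderOf_map_dvd (QuotientGroup.mk' D) _
      have hd2 : orderOf ((FrobSection.pp p y : H) : H ⧸ D) ∣ orderOf (y : H ⧸ D) := by
        rw [← show y ^ i = FrobSection.pp p y from hi, QuotientGroup.mk_zpow]
        exact orderOf_dvd_of_mem_zpowers ⟨i, rfl⟩
      exact orderOf_eq_one_iff.mp (Nat.eq_one_of_dvd_coprimes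
        ((hp.coprime_iff_not_dvd.mpr hq).pow_left k) hd1 hd2)
    have h2 : (y : H ⧸ D) = ((regP p y : H) : H ⧸ D) := by
      conv_lhs => rw [← he]
      rw [QuotientGroup.mk_mul, h1, one_mul]
    rw [show QuotientGroup.mk' D y = ((regP p y : H) : H ⧸ D) from h2]
    exact ha _ hr

end Cfsg.Agent.SmallSection
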