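import Cfsg.Agent.Lib.FrobSection.Sections
import Cfsg.Agent.Lib.CyclicDefect.Apply
import Cfsg.Agent.Lib.Codegree.Basic
import Cfsg.Agent.S0941

/-!
# The principal block over a central `p`-subgroup

* `exists_quot_expansion`: on the `p`-regular elements an irreducible character is an integral
  combination of characters of `H ⧸ D`.
* `inflate_mem_principal_iff`: inflation respects the principal block.
* `principal_basis`: for `|D| = p` and `p` exactly dividing `|H ⧸ D|`, a basis `φ` of the functions
  of the principal block on the regular elements, with Gram matrix `p * (δ + t)`.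
-/

set_option autoImplicit false
set_option linter.unusedSectionVars false
set_option linter.style.haveILetI false

open scoped ComplexConjugate

namespace Cfsg.Agent.SmallSection

open Cfsg Cfsg.Agent Cfsg.Agent.Blocks

variable {H : Type*} [Group H] [Finite H] {p : ℕ} [Fact p.Prime]

/-- The part of order prime to `p`. -/
noncomputable def regP (p : ℕ) [Fact p.Prime] (g : H) : H := g * (FrobSection.pp p g)⁻¹

theorem regP_spec (g : H) : ¬ p ∣ orderOf (regP p g) ∧ FrobSection.pp p g * regP p g = g := by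
  obtain ⟨y, he, hc, -, hy⟩ := FrobSection.isPPart_pp (p := p) g
  have h : regP p g = y := by
    show g * (FrobSection.pp p g)⁻¹ = y
    nth_rw 1 [← he]
    rw [hc.eq, mul_inv_cancel_right]
  rw [h]
  exact ⟨hy, he⟩

theorem regP_eq_self {g : H} (h : ¬ p ∣ orderOf g) : regP p g = g := by
  rw [regP, FrobSection.pp_eq_one_iff.mpr h, inv_one, mul_one]

theorem regP_conj (c g : H) : regP p (c * g * c⁻¹) = c * regP p g * c⁻¹ := by
  rw [regP, regP, FrobSection.pp_conj]
  group

theorem regP_mul_central {u : H} (hu : ∃ k, orderOf u = p ^ k) {g : H} (hc : Commute g u) :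
    regP p (g * u) = regP p g := by
  rw [regP, regP, FrobSection.pp_mul_of_commute hc, FrobSection.pp_eq_self hu, mul_inv_rev,
    mul_assoc g u, mul_inv_cancel_left]

/-- A character composed with the regular part is a generalized character. -/
theorem isGC_regP (χ : IrrCharacter H) :
    IsGeneralizedCharacter H (fun g => (χ : H → ℂ) (regP p g)) := by
  refine Char.brauer_characterization (fun g c => by rw [regP_conj]; exact irr_class χ _ c)
    fun E r hr hE => ?_
  let π : E → H := fun e => FrobSection.pp p (e : H)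
  have hπ : ∀ e : E, π e ∈ E := fun e =>
    Subgroup.zpowers_le.mpr e.2 (FrobSection.pp_mem_zpowers (p := p) (e : H)).1
  have hmul : ∀ a b : E, π (a * b) = π a * π b := fun a b =>
    FrobSection.pp_mul_of_elementary hr hE a.2 b.2
  -- the p-elements of `E` commute with the p-regular ones
  have hcomm : ∀ a b : E, Commute (π a) (regP p (b : H)) := by
    intro a b
    have hcE : regP p (b : H) ∈ E := E.mul_mem b.2 (E.inv_mem (hπ b))
    set u : E := ⟨π a, hπ a⟩
    set c : E := ⟨regP p (b : H), hcE⟩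
    have hu : π u = π a := FrobSection.pp_eq_self (FrobSection.exists_orderOf_pp (p := p) (a : H))
    have hc : π c = 1 := FrobSection.pp_eq_one_iff.mpr (regP_spec (b : H)).1
    have h1 : π (u * c * u⁻¹ * c⁻¹) = 1 := by
      have hi : ∀ e : E, π e⁻¹ = (π e)⁻¹ := fun e => eq_inv_of_mul_eq_one_left (by
        rw [← hmul, inv_mul_cancel]; exact FrobSection.pp_one)
      rw [hmul, hmul, hmul, hi, hi, hu, hc]; group
    have h2 : π (u * c * u⁻¹ * c⁻¹) = ((u * c * u⁻¹ * c⁻¹ : E) : H) := by
      refine FrobSection.pp_eq_self ?_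
      have hm : ((u * c * u⁻¹ * c⁻¹ : E) : H) = π (a * (c * a⁻¹ * c⁻¹)) := by
        rw [hmul]
        have := FrobSection.pp_conj (p := p) (c : H) ((a⁻¹ : E) : H)
        show _ = π a * FrobSection.pp p ((c : H) * ((a⁻¹ : E) : H) * (c : H)⁻¹)
        rw [this, show FrobSection.pp p ((a⁻¹ : E) : H) = (π a)⁻¹ from eq_inv_of_mul_eq_one_left (by
          show π a⁻¹ * π a = 1
          rw [← hmul, inv_mul_cancel]; exact FrobSection.pp_one)]
        simp only [Subgroup.coe_mul, Subgroup.coe_inv, u]
        group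
      rw [hm]
      exact FrobSection.exists_orderOf_pp _
    rw [h2] at h1
    push_cast at h1
    show π a * regP p (b : H) = regP p (b : H) * π a
    rw [mul_inv_eq_one, mul_inv_eq_iff_eq_mul] at h1
    exact h1
  let ψ : E →* H := MonoidHom.mk' (fun e => regP p (e : H)) fun a b => by
    show ((a : H) * (b : H)) * (π (a * b))⁻¹ = (a : H) * (π a)⁻¹ * ((b : H) * (π b)⁻¹)
    have h := (hcomm a b).inv_left
    have h' : (π a)⁻¹ * ((b : H) * (π b)⁻¹) = ((b : H) * (π b)⁻¹) * (π a)⁻¹ := h.eq
    rw [hmul, mul_inv_rev, mul_assoc (a : H) (π a)⁻¹, h']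
    group
  exact Char.IsGeneralizedCharacter.comp_hom
    (Char.isGeneralizedCharacter_of_isCharacter (Char.IsIrrCharacter.isCharacter χ.2)) ψ

variable {D : Subgroup H}

/-- On regular elements a character is an integral combination of characters of `H ⧸ D`. -/
theorem exists_quot_expansion [D.Normal] [Fintype (IrrCharacter (H ⧸ D))] (hD : IsPGroup p D)
    (hDZ : D ≤ Subgroup.center H) (η : IrrCharacter H) :
    ∃ n : IrrCharacter (H ⧸ D) → ℤ, ∀ g : H, ¬ p ∣ orderOf g →
      (η : H → ℂ) g = ∑ ξ : IrrCharacter (H ⧸ D), (n ξ : ℂ) * (ξ : H ⧸ D → ℂ) g := by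
  classical
  have := Fintype.ofFinite H
  have := Fintype.ofFinite (H ⧸ D)
  set f : H → ℂ := fun g => (η : H → ℂ) (regP p g)
  have hf := isGC_regP (p := p) η
  have hinv : ∀ (g : H) (u : H), u ∈ D → f (g * u) = f g := fun g u hu => by
    obtain ⟨k, hk⟩ := IsPGroup.iff_orderOf.mp hD ⟨u, hu⟩
    show (η : H → ℂ) _ = (η : H → ℂ) _
    rw [regP_mul_central ⟨k, by rw [← hk, ← Subgroup.orderOf_coe]⟩
      (Subgroup.mem_center_iff.mp (hDZ hu) g)]
  let F : H ⧸ D → ℂ := fun q => f q.out
  have hF : ∀ g : H, F g = f g := fun g => by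
    obtain ⟨⟨u, hu⟩, he⟩ := QuotientGroup.mk_out_eq_mul D g
    show f _ = f g
    rw [he]
    exact hinv g u hu
  have hFc : IsClassFunction (H ⧸ D) F := fun q c => by
    obtain ⟨g, rfl⟩ := QuotientGroup.mk'_surjective D q
    obtain ⟨c, rfl⟩ := QuotientGroup.mk'_surjective D c
    simp only [QuotientGroup.mk'_apply]
    rw [← QuotientGroup.mk_mul, ← QuotientGroup.mk_inv, ← QuotientGroup.mk_mul, hF, hF]
    show (η : H → ℂ) (regP p _) = (η : H → ℂ) (regP p _)
    rw [regP_conj]
    exact irr_class η _ c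
  have hint : ∀ ξ : IrrCharacter (H ⧸ D), ∃ m : ℤ, classInner F (ξ : H ⧸ D → ℂ) = m := by
    intro ξ
    obtain ⟨m, hm⟩ := Char.IsGeneralizedCharacter.classInner_int hf
      (Char.isGeneralizedCharacter_of_isCharacter
        (Char.IsIrrCharacter.isCharacter (Codegree.inflate D ξ).2))
    refine ⟨m, ?_⟩
    rw [← hm, classInner, classInner]
    have h1 : ∑ g : H, f g * conj ((Codegree.inflate D ξ : H → ℂ) g) =
        (Nat.card D : ℂ) * ∑ q : H ⧸ D, F q * conj ((ξ : H ⧸ D → ℂ) q) := by
      rw [Finset.mul_sum, ← Finset.sum_congr rfl fun q _ => congrArg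
        (· * (F q * conj ((ξ : H ⧸ D → ℂ) q))) (show BlocksNormal.pushFun (QuotientGroup.mk' D) (fun _ => (1 : ℂ)) q
          = (Nat.card D : ℂ) by
          rw [BlocksNormal.pushFun_comp (QuotientGroup.mk'_surjective D) (fun _ => (1 : ℂ)),
            QuotientGroup.ker_mk', mul_one]),
        BlocksNormal.sum_pushFun (QuotientGroup.mk' D) (fun _ => (1 : ℂ))
          (fun q => F q * conj ((ξ : H ⧸ D → ℂ) q))]
      exact Finset.sum_congr rfl fun g _ => by rw [one_mul, QuotientGroup.mk'_apply, hF]; rfl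
    rw [h1, ← Subgroup.card_mul_index D, Nat.cast_mul, show D.index = Nat.card (H ⧸ D) from rfl]
    field_simp [Nat.card_pos.ne']
  choose m hm using hint
  refine ⟨m, fun g hg => ?_⟩
  have h := congrFun (Char.classFunction_eq_sum hFc) g
  rw [Finset.sum_apply, hF g] at h
  show _ = _
  rw [← show f g = (η : H → ℂ) g from congrArg _ (regP_eq_self hg), h]
  exact Finset.sum_congr rfl fun ξ _ => by rw [Pi.smul_apply, smul_eq_mul, hm]

theorem index_centralizer_of_central (hDZ : D ≤ Subgroup.center H) :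
    (Subgroup.centralizer (D : Set H)).index = p ^ 0 := by
  rw [pow_zero, Subgroup.index_eq_one, eq_top_iff]
  exact fun g _ => Subgroup.mem_centralizer_iff.mpr fun u hu =>
    ((Subgroup.mem_center_iff.mp (hDZ hu)) g).symm

variable {M : Ideal AlgInt}

/-- Inflation respects the principal block. -/
theorem inflate_mem_principal_iff [D.Normal] (hM : IsPModular p M) (hD : IsPGroup p D)
    (hDZ : D ≤ Subgroup.center H) (ξ : IrrCharacter (H ⧸ D)) :
    Codegree.inflate D ξ ∈ principalBlock M H ↔ ξ ∈ principalBlock M (H ⧸ D) :=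
  (((S0941.result p M hM D hD ⟨0, index_centralizer_of_central hDZ⟩).1
    (BrauerPairs.oneIrr (H ⧸ D)) ξ).symm : _)

open scoped Classical in
/-- The expansion inside the principal block. -/
theorem exists_principal_expansion [D.Normal] [Fintype (IrrCharacter (H ⧸ D))] (hM : IsPModular p M)
    (hD : IsPGroup p D) (hDZ : D ≤ Subgroup.center H) {η : IrrCharacter H}
    (hη : η ∈ principalBlock M H) :
    ∃ n : IrrCharacter (H ⧸ D) → ℤ, ∀ g : H, ¬ p ∣ orderOf g →
      (η : H → ℂ) g = ∑ ξ ∈ Finset.univ.filter (· ∈ principalBlock M (H ⧸ D)),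
        (n ξ : ℂ) * (ξ : H ⧸ D → ℂ) g := by
  have := Fintype.ofFinite H
  have := Fintype.ofFinite (IrrCharacter H)
  obtain ⟨n, hn⟩ := exists_quot_expansion hD hDZ η
  refine ⟨n, fun g hg => ?_⟩
  set b := principalBlock M H
  have hb : IsPBlock M b := BrauerPairs.isPBlock_principal
  have hpart : ∀ (ζ : IrrCharacter H), blockPart b (ζ : H → ℂ) g =
      if ζ ∈ b then (ζ : H → ℂ) g else 0 := by
    intro ζ
    rw [SecondMain.blockPart_apply, finsum_mem_eq_toFinset_sum]
    simp only [fun ξ : IrrCharacter H => Char.classInner_irr ζ.2 ξ.2, ite_mul, one_mul, zero_mul]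
    by_cases h : ζ ∈ b
    · rw [Finset.sum_eq_single ζ (fun ξ _ hne => if_neg fun e => hne (Subtype.ext e.symm))
        (fun h' => absurd (Set.mem_toFinset.mpr h) h'), if_pos rfl, if_pos h]
    · rw [if_neg h]
      exact Finset.sum_eq_zero fun ξ hξ => if_neg fun e =>
        h ((Subtype.ext e : ζ = ξ) ▸ Set.mem_toFinset.mp hξ)
  have h1 : blockPart b (η : H → ℂ) g = blockPart b
      (∑ ξ : IrrCharacter (H ⧸ D), (n ξ : ℂ) • (Codegree.inflate D ξ : H → ℂ)) g :=
    SecondMain.blockPart_congr_regular hM hb (fun m hm => by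
      rw [hn m hm, Finset.sum_apply]; rfl) hg
  rw [hpart, if_pos hη, SecondMain.blockPart_sum_smul] at h1
  rw [h1, Finset.sum_filter]
  refine Finset.sum_congr rfl fun ξ _ => ?_
  rw [hpart, if_congr (inflate_mem_principal_iff hM hD hDZ ξ) rfl rfl, mul_ite, mul_zero]
  rfl

end Cfsg.Agent.SmallSection
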