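import Cfsg.Agent.Lib.SecondMain.CycloTrace

/-!
# Counting with the quadratic form of a chain

`count_le`: rows of integral cyclotomic vectors with Gram matrix `K * (δ + t)` number at most
`K * (e + t)` among the non-zero ones.
-/

set_option autoImplicit false

open scoped ComplexConjugate

namespace Cfsg.Agent.SmallSection

open Polynomial Finset CycloTrace

/-- A vector continued by zero. -/
noncomputable def padded {e : ℕ} (P : Fin e → ℤ[X]) (k : ℕ) : ℤ[X] := if h : k < e then P ⟨k, h⟩ else 0

/-- The successive differences, starting and ending at zero. -/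
noncomputable def diffs {e : ℕ} (P : Fin e → ℤ[X]) : ℕ → ℤ[X]
  | 0 => - padded P 0
  | k + 1 => padded P k - padded P (k + 1)

theorem count_le {p n : ℕ} [Fact p.Prime] {ι : Type*} [Fintype ι] {e : ℕ} (t K : ℕ)
    (P : ι → Fin e → ℤ[X])
    (hG : ∀ i j, ∑ χ, aeval (root p n) (P χ i) * conj (aeval (root p n) (P χ j)) =
      (K : ℂ) * ((if i = j then 1 else 0) + (t : ℂ)))
    (S : Finset ι) (hS : ∀ χ ∈ S, ∃ i, aeval (root p n) (P χ i) ≠ 0) :
    S.card ≤ K * (e + t) := by
  classical
  rcases Nat.eq_zero_or_pos e with rfl | he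
  · have hS0 : S = ∅ := Finset.eq_empty_of_forall_notMem fun χ hχ => (hS χ hχ).choose.elim0
    simp [hS0]
  let g : ℕ → ℕ → ℂ := fun a b => if a < e ∧ b < e then (K : ℂ) * ((if a = b then 1 else 0) + (t : ℂ)) else 0
  have hg0 : ∀ a b, ∑ χ, aeval (root p n) (padded (P χ) a) * conj (aeval (root p n) (padded (P χ) b)) =
      g a b := by
    intro a b
    simp only [g, padded]
    by_cases ha : a < e
    · by_cases hb : b < e
      · simp only [dif_pos ha, dif_pos hb, if_pos (show a < e ∧ b < e from ⟨ha, hb⟩), hG, Fin.mk.injEq]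
      · simp [dif_neg hb, hb]
    · simp [dif_neg ha, ha]
  have hg : ∀ z ∈ prim p n, ∀ a b,
      ∑ χ, aeval z (padded (P χ) a) * conj (aeval z (padded (P χ) b)) = g a b := by
    intro z hz a b
    let N : ℤ := if a < e ∧ b < e then (K : ℤ) * ((if a = b then 1 else 0) + (t : ℤ)) else 0
    have hN : (N : ℂ) = g a b := by
      simp only [N, g]
      split_ifs <;> push_cast <;> rfl
    have h := aeval_eq (p := p) (n := n)
      (P := ∑ χ, padded (P χ) a * (padded (P χ) b).comp (X ^ (p ^ (n + 1) - 1))) (Q := Polynomial.C N) ?_ hz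
    · simp only [map_sum, map_mul, aeval_C, ← conj_aeval (mem_prim.mp hz)] at h
      rw [h, ← hN]; simp
    · simp only [map_sum, map_mul, aeval_C, ← conj_aeval (isPrimitiveRoot_root (p := p) (n := n))]
      rw [hg0, ← hN]; simp
  have hsq : ∀ w : ℂ, (Complex.normSq w : ℂ) = w * conj w := fun w => (Complex.mul_conj w).symm
  have htot : ∀ z ∈ prim p n,
      ∑ χ, ∑ k ∈ range (e + 1), Complex.normSq (aeval z (diffs (P χ) k)) = 2 * ((K * (e + t) : ℕ) : ℝ) := by
    intro z hz
    apply Complex.ofReal_injective
    push_cast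
    simp only [hsq]
    rw [Finset.sum_comm, Finset.sum_range_succ', Finset.sum_congr rfl (g := fun k => g k k - g k (k + 1) -
      g (k + 1) k + g (k + 1) (k + 1)) (fun k _ => ?_)]
    · simp only [diffs, map_neg, neg_mul_neg]
      rw [hg z hz]
      obtain ⟨m, rfl⟩ := Nat.exists_eq_succ_of_ne_zero he.ne'
      rw [Finset.sum_range_succ]
      have hlast : g m m - g m (m + 1) - g (m + 1) m + g (m + 1) (m + 1) = (K : ℂ) * (1 + t) := by
        simp [g]
      have hmid : ∀ k ∈ range m, g k k - g k (k + 1) - g (k + 1) k + g (k + 1) (k + 1) = 2 * (K : ℂ) := by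
        intro k hk
        have hk' : k + 1 < m + 1 := by simpa using Finset.mem_range.mp hk
        simp only [g]
        rw [if_pos (show k < m.succ ∧ k < m.succ by omega), if_pos (show k < m.succ ∧ k + 1 < m.succ by omega),
          if_pos (show k + 1 < m.succ ∧ k < m.succ by omega), if_pos (show k + 1 < m.succ ∧ k + 1 < m.succ by omega),
          if_true, if_neg (show k ≠ k + 1 by omega), if_neg (show k + 1 ≠ k by omega)]
        ring
      rw [hlast, Finset.sum_congr rfl hmid, Finset.sum_const, Finset.card_range]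
      simp [g]
      ring
    · simp only [diffs, map_sub, sub_mul, mul_sub, Finset.sum_sub_distrib, hg z hz]
      ring
  have havg : avg p n (fun z => ∑ χ, ∑ k ∈ range (e + 1), Complex.normSq (aeval z (diffs (P χ) k))) =
      2 * ((K * (e + t) : ℕ) : ℝ) := by
    rw [avg_congr htot, avg_const]
  rw [avg_sum] at havg
  have hlow : ∀ χ ∈ S, (2 : ℝ) ≤ avg p n fun z => ∑ k ∈ range (e + 1), Complex.normSq (aeval z (diffs (P χ) k)) := by
    intro χ hχ
    obtain ⟨i, hi⟩ := hS χ hχ
    have hne : ∀ k, aeval (root p n) (padded (P χ) k) ≠ 0 → k < e := fun k hk => by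
      by_contra h
      exact hk (by simp [padded, h])
    have hex : ∃ k, aeval (root p n) (padded (P χ) k) ≠ 0 := ⟨i, by simpa [padded, i.2] using hi⟩
    set T := (range e).filter fun k => aeval (root p n) (padded (P χ) k) ≠ 0
    have hT : T.Nonempty := ⟨Nat.find hex,
      Finset.mem_filter.mpr ⟨Finset.mem_range.mpr (hne _ (Nat.find_spec hex)), Nat.find_spec hex⟩⟩
    set a := T.min' hT
    set b := T.max' hT
    have ha := Finset.mem_filter.mp (T.min'_mem hT)
    have hb := Finset.mem_filter.mp (T.max'_mem hT)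
    have hab : a ≤ b := T.min'_le _ (T.max'_mem hT)
    have hae : a < e := Finset.mem_range.mp ha.1
    have hbe : b < e := Finset.mem_range.mp hb.1
    have h1 : aeval (root p n) (diffs (P χ) a) ≠ 0 := by
      rcases h : a with _ | m
      · simp only [diffs, map_neg, neg_ne_zero]
        exact h ▸ ha.2
      · have h0 : aeval (root p n) (padded (P χ) m) = 0 := by
          by_contra h'
          have := T.min'_le m (Finset.mem_filter.mpr ⟨Finset.mem_range.mpr (hne _ h'), h'⟩)
          omega
        simp only [diffs, map_sub, h0, zero_sub, neg_ne_zero]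
        exact h ▸ ha.2
    have h2 : aeval (root p n) (diffs (P χ) (b + 1)) ≠ 0 := by
      have h0 : aeval (root p n) (padded (P χ) (b + 1)) = 0 := by
        by_contra h'
        have := T.le_max' (b + 1) (Finset.mem_filter.mpr ⟨Finset.mem_range.mpr (hne _ h'), h'⟩)
        omega
      simp only [diffs, map_sub, h0, sub_zero]
      exact hb.2
    have hsub : ({a, b + 1} : Finset ℕ) ⊆ range (e + 1) := by
      intro k hk
      simp only [Finset.mem_insert, Finset.mem_singleton] at hk
      rw [Finset.mem_range]
      omega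
    rw [avg_sum]
    refine le_trans ?_ (Finset.sum_le_sum_of_subset_of_nonneg hsub fun k _ _ =>
      avg_nonneg fun z _ => Complex.normSq_nonneg _)
    rw [Finset.sum_pair (by omega : a ≠ b + 1)]
    linarith [one_le_avg_normSq (p := p) (n := n) h1, one_le_avg_normSq (p := p) (n := n) h2]
  have hsum : (S.card : ℝ) * 2 ≤ 2 * ((K * (e + t) : ℕ) : ℝ) := by
    rw [← havg]
    refine le_trans ?_ (Finset.sum_le_sum_of_subset_of_nonneg (Finset.subset_univ S) fun χ _ _ =>
      avg_nonneg fun z _ => Finset.sum_nonneg fun k _ => Complex.normSq_nonneg _)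
    refine le_trans (le_of_eq ?_) (Finset.sum_le_sum hlow)
    rw [Finset.sum_const, nsmul_eq_mul]
  have : S.card ≤ K * (e + t) := by
    have h' : (S.card : ℝ) ≤ ((K * (e + t) : ℕ) : ℝ) := by linarith
    exact_mod_cast h'
  exact this

end Cfsg.Agent.SmallSection
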