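import Cfsg.Agent.Lib.SmallSection.Basis
import Cfsg.Agent.Lib.SmallSection.Count
import Cfsg.Agent.Lib.SecondMain.Contributions
import Cfsg.Agent.Lib.Transfer.Tate
import Cfsg.Agent.Lib.GaloisAvg.PElement

/-!
# Characters of degree prime to `p` and a small section

`card_le_of_section`: a basis of the principal block of `C(x)` with Gram matrix `K * (δ + t)`
bounds their number in the principal block by `K * (e + t)`.
`complement_basis`: the basis when `C(x)` has a normal `p`-complement.
-/

set_option autoImplicit false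

open scoped ComplexConjugate

namespace Cfsg.Agent.SmallSection

open Cfsg Cfsg.Agent Cfsg.Agent.Blocks Polynomial CycloTrace

variable {G : Type*} [Group G] [Finite G] {p : ℕ} [Fact p.Prime] {M : Ideal AlgInt}

theorem card_le_of_section (hM : IsPModular p M) {x : G} {n : ℕ} (hxn : orderOf x ∣ p ^ (n + 1))
    {H : Subgroup G} (hH : ∀ g, g ∈ H ↔ Commute x g) {e t K : ℕ} (φ : Fin e → H → ℂ)
    (hint : ∀ i, IsIntegral ℤ (φ i 1))
    (hexp : ∀ η ∈ principalBlock M H, ∃ c : Fin e → ℤ, ∀ g : H, ¬ p ∣ orderOf g →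
      (η : H → ℂ) g = ∑ i, (c i : ℂ) * φ i g)
    (hcol : ∀ g g' : H, ¬ p ∣ orderOf g → ¬ p ∣ orderOf g' → SecondMain.colSum (principalBlock M H) g g' =
      (K : ℂ) * ∑ i, ∑ j, ((if i = j then 1 else 0) + (t : ℂ)) * (φ i g * conj (φ j g')))
    (hind : ∀ a : Fin e → ℂ, (∀ g : H, ¬ p ∣ orderOf g → ∑ i, a i * φ i g = 0) → a = 0) :
    Nat.card {χ : IrrCharacter G // χ ∈ principalBlock M G ∧ ¬ p ∣ charDegree (χ : G → ℂ)} ≤ K * (e + t) := by
  classical
  have hp : p.Prime := Fact.out
  obtain ⟨k, -, hk⟩ := (Nat.dvd_prime_pow hp).mp hxn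
  have hx : ∃ k, orderOf x = p ^ k := ⟨k, hk⟩
  have := Fintype.ofFinite G
  have := Fintype.ofFinite H
  have := Fintype.ofFinite (IrrCharacter G)
  have := Fintype.ofFinite (IrrCharacter H)
  have hB0 : IsPBlock M (principalBlock M G) := BrauerPairs.isPBlock_principal
  have hset := SecondMain.inducedSet_principal hM hx hH
  choose l hl1 hl using fun η : IrrCharacter H => SecondMain.exists_classInner_shift hH η
  choose m hm using fun (χ : IrrCharacter G) (η : IrrCharacter H) =>
    Char.IsGeneralizedCharacter.classInner_int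
      (Char.isGeneralizedCharacter_of_isCharacter
        (Char.IsCharacter.restrict (Char.IsIrrCharacter.isCharacter χ.2) H))
      (Char.isGeneralizedCharacter_of_isCharacter (Char.IsIrrCharacter.isCharacter η.2))
  choose c hc using hexp
  have hroot : ∀ η : IrrCharacter H, ∃ j : ℕ, root p n ^ j = l η := fun η => by
    obtain ⟨d, hd⟩ := hxn
    obtain ⟨j, -, hj⟩ := (isPrimitiveRoot_root (p := p) (n := n)).eq_pow_of_pow_eq_one
      (ξ := l η) (by rw [hd, pow_mul, hl1 η, one_pow])
    exact ⟨j, hj⟩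
  choose j hj using hroot
  let P : principalBlock M G → Fin e → ℤ[X] := fun χ i =>
    ∑ η : principalBlock M H, Polynomial.C (m χ.1 η.1 * c η.1 η.2 i) * X ^ j η.1
  let a : principalBlock M G → Fin e → ℂ := fun χ i => aeval (root p n) (P χ i)
  have hval : ∀ (χ : principalBlock M G) (s : H), ¬ p ∣ orderOf s →
      (χ.1 : G → ℂ) (x * (s : G)) = ∑ i, a χ i * φ i s := by
    intro χ s hs
    have h := SecondMain.sum_induced_shift_of_mem hM hx hH hB0 χ.2 hs
    rw [hset, finsum_mem_singleton, SecondMain.blockPart_apply, finsum_mem_eq_toFinset_sum,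
      Finset.sum_subtype (principalBlock M H).toFinset (p := (· ∈ principalBlock M H)) (fun _ => Set.mem_toFinset)] at h
    rw [← h]
    simp only [a, P, map_sum, map_mul, aeval_C, map_pow, aeval_X, Finset.sum_mul]
    rw [Finset.sum_comm]
    refine Finset.sum_congr rfl fun η _ => ?_
    have hcoef : classInner (fun g : H => (χ.1 : G → ℂ) (x * (g : G))) (η.1 : H → ℂ) = l η.1 * m χ.1 η.1 := by
      rw [← hm χ.1 η.1, ← hl η.1 _ fun a b => irr_class χ.1 (a : G) (b : G)]
      rfl
    rw [hcoef, hc η.1 η.2 s hs, Finset.mul_sum]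
    refine Finset.sum_congr rfl fun i _ => ?_
    simp only [hj, map_mul, algebraMap_int_eq, eq_intCast, Int.cast_mul]
    ring
  have hG : ∀ i i', ∑ χ, a χ i * conj (a χ i') = (K : ℂ) * ((if i = i' then 1 else 0) + (t : ℂ)) := by
    let W : Fin e → Fin e → ℂ := fun i i' =>
      ∑ χ, a χ i * conj (a χ i') - (K : ℂ) * ((if i = i' then 1 else 0) + (t : ℂ))
    suffices hW : ∀ i i', W i i' = 0 from fun i i' => sub_eq_zero.mp (hW i i')
    have h0 : ∀ g g' : H, ¬ p ∣ orderOf g → ¬ p ∣ orderOf g' →
        ∑ i, (∑ i', W i i' * conj (φ i' g')) * φ i g = 0 := by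
      intro g g' hg hg'
      have h1 := SecondMain.colSum_eq_sum hM hB0 hx hH hg hg'
      rw [hset, finsum_mem_singleton, hcol g g' hg hg', SecondMain.colSum, finsum_mem_eq_toFinset_sum,
        Finset.sum_subtype (principalBlock M G).toFinset (p := (· ∈ principalBlock M G)) (fun _ => Set.mem_toFinset),
        Finset.sum_congr rfl fun (χ : principalBlock M G) _ => by
          rw [hval χ g hg, hval χ g' hg', map_sum, Finset.sum_mul_sum]] at h1
      rw [Finset.sum_comm, Finset.sum_congr rfl fun i _ => Finset.sum_comm, Finset.mul_sum] at h1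
      have h2 := sub_eq_zero.mpr h1
      rw [← Finset.sum_sub_distrib] at h2
      refine Eq.trans (Finset.sum_congr rfl fun i _ => ?_) h2
      rw [Finset.mul_sum, ← Finset.sum_sub_distrib, Finset.sum_mul]
      refine Finset.sum_congr rfl fun i' _ => ?_
      simp only [W, map_mul, sub_mul, Finset.sum_mul]
      congr 1
      · exact Finset.sum_congr rfl fun χ _ => by ring
      · ring
    intro i i'
    have h1 : ∀ g', ¬ p ∣ orderOf g' → ∑ k, conj (W i k) * φ k g' = 0 := fun g' hg' => by
      have h := congrArg conj (congrFun (hind (fun i => ∑ k, W i k * conj (φ k g')) fun g hg => h0 g g' hg hg') i)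
      simpa [map_sum] using h
    have h := congrFun (hind (fun k => conj (W i k)) h1) i'
    simpa using congrArg conj h
  set S : Finset (principalBlock M G) := Finset.univ.filter fun χ => ¬ p ∣ charDegree (χ.1 : G → ℂ)
  have hS : ∀ χ ∈ S, ∃ i, aeval (root p n) (P χ i) ≠ 0 := by
    intro χ hχ
    by_contra h
    push Not at h
    have h1 := hval χ 1 (by simpa using hp.ne_one)
    rw [Subgroup.coe_one, mul_one, Finset.sum_eq_zero fun i _ => by simp only [a, h i, zero_mul]] at h1
    exact (Finset.mem_filter.mp hχ).2 (GaloisAvg.dvd_degree_of_apply_eq_zero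
      (Char.IsIrrCharacter.isCharacter χ.1.2) (k := k) (by rw [← hk, pow_orderOf_eq_one])
      (charDegree_cast χ.1).symm h1)
  refine le_trans (le_of_eq ?_) (count_le t K P hG S hS)
  rw [← Nat.card_eq_finsetCard]
  exact Nat.card_congr
    { toFun := fun χ => ⟨⟨χ.1, χ.2.1⟩, Finset.mem_filter.mpr ⟨Finset.mem_univ _, χ.2.2⟩⟩
      invFun := fun χ => ⟨χ.1.1, χ.1.2, (Finset.mem_filter.mp χ.2).2⟩ }

theorem complement_basis {H : Type*} [Group H] [Finite H] (hM : IsPModular p M)
    (hc : HasNormalPComplement p H) :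
    ∃ φ : Fin 1 → H → ℂ, (∀ i, IsIntegral ℤ (φ i 1)) ∧
      (∀ η ∈ principalBlock M H, ∃ c : Fin 1 → ℤ, ∀ g : H, ¬ p ∣ orderOf g →
        (η : H → ℂ) g = ∑ i, (c i : ℂ) * φ i g) ∧
      (∀ g g' : H, ¬ p ∣ orderOf g → ¬ p ∣ orderOf g' → SecondMain.colSum (principalBlock M H) g g' =
        ((p ^ (Nat.card H).factorization p : ℕ) : ℂ) *
          ∑ i, ∑ j, ((if i = j then 1 else 0) + ((0 : ℕ) : ℂ)) * (φ i g * conj (φ j g'))) ∧
      (∀ a : Fin 1 → ℂ, (∀ g : H, ¬ p ∣ orderOf g → ∑ i, a i * φ i g = 0) → a = 0) := by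
  classical
  have := Fintype.ofFinite H
  have := Fintype.ofFinite (IrrCharacter H)
  have h1reg : ¬ p ∣ orderOf (1 : H) := by simpa using (Fact.out : p.Prime).ne_one
  have hb : IsPBlock M (principalBlock M H) := BrauerPairs.isPBlock_principal
  have hrank := BrauerPairs.blockRank_principal_of_complement hM hc
  have hline : ∀ η ∈ principalBlock M H, ∀ s : H, ¬ p ∣ orderOf s → (η : H → ℂ) s = (η : H → ℂ) 1 := by
    intro η hη s hs
    let v : Submodule.span ℂ ((fun χ : IrrCharacter H => pRegularPart p (χ : H → ℂ)) '' principalBlock M H) :=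
      ⟨pRegularPart p ((BrauerPairs.oneIrr H : IrrCharacter H) : H → ℂ),
        Submodule.subset_span ⟨_, BrauerPairs.oneIrr_mem_principal hM, rfl⟩⟩
    have hone : ∀ g : H, ¬ p ∣ orderOf g →
        pRegularPart p ((BrauerPairs.oneIrr H : IrrCharacter H) : H → ℂ) g = 1 := fun g hg => by
      rw [SecondMain.pRegularPart_of_regular hg]
      rfl
    have hv : v ≠ 0 := fun h => by
      have h2 := congrFun (congrArg Subtype.val h) 1
      simp only [v, hone 1 h1reg, ZeroMemClass.coe_zero, Pi.zero_apply, one_ne_zero] at h2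
    obtain ⟨c, hc'⟩ := (finrank_eq_one_iff_of_nonzero' v hv).mp hrank
      ⟨pRegularPart p (η : H → ℂ), Submodule.subset_span ⟨η, hη, rfl⟩⟩
    have h2 : ∀ g : H, ¬ p ∣ orderOf g → (η : H → ℂ) g = c := fun g hg => by
      have h3 := congrFun (congrArg Subtype.val hc') g
      simp only [v, Submodule.coe_smul, Pi.smul_apply, smul_eq_mul, hone g hg,
        SecondMain.pRegularPart_of_regular hg, mul_one] at h3
      exact h3.symm
    rw [h2 s hs, h2 1 h1reg]
  have hconst : ∀ g g' : H, ¬ p ∣ orderOf g → ¬ p ∣ orderOf g' →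
      SecondMain.colSum (principalBlock M H) g g' = SecondMain.colSum (principalBlock M H) 1 1 := by
    intro g g' hg hg'
    simp only [SecondMain.colSum]
    exact finsum_mem_congr rfl fun η hη => by rw [hline η hη g hg, hline η hη g' hg']
  have hval : SecondMain.colSum (principalBlock M H) 1 1 = ((p ^ (Nat.card H).factorization p : ℕ) : ℂ) := by
    have h := SecondMain.blockRank_eq_regular hM hb
    rw [hrank, Nat.cast_one, Finset.sum_congr rfl (g := fun _ => SecondMain.colSum (principalBlock M H) 1 1)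
      (fun g hg => hconst g g (Finset.mem_filter.mp hg).2 (Finset.mem_filter.mp hg).2),
      Finset.sum_const, nsmul_eq_mul] at h
    set R := (Finset.univ.filter fun g : H => ¬ p ∣ orderOf g).card
    have hR : R * p ^ (Nat.card H).factorization p = Nat.card H := by
      obtain ⟨S⟩ := (inferInstance : Nonempty (Sylow p H))
      rw [← S.card_eq_multiplicity]
      have h2 := ((Transfer.isComplement'_pResidual_iff S).mpr
        (Transfer.hasNormalPComplement_iff_coprime.mp hc)).card_mul
      rw [← h2]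
      congr 1
      simp only [R]
      rw [Nat.card_eq_fintype_card, Fintype.card_subtype]
      congr 1
      refine Finset.filter_congr fun s _ => ?_
      rw [Transfer.mem_pResidual_iff hc, Nat.coprime_comm, (Fact.out : p.Prime).coprime_iff_not_dvd]
    rw [← mul_assoc, eq_comm, ← hR, Nat.cast_mul] at h
    have hR0 : (R : ℂ) ≠ 0 := by
      intro h0
      have hR' := hR
      rw [Nat.cast_eq_zero.mp h0, zero_mul] at hR'
      exact Nat.card_pos.ne' hR'.symm
    have hpa : ((p ^ (Nat.card H).factorization p : ℕ) : ℂ) ≠ 0 :=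
      Nat.cast_ne_zero.mpr (pow_ne_zero _ (Fact.out : p.Prime).ne_zero)
    field_simp at h
    exact h
  refine ⟨fun _ _ => 1, fun _ => isIntegral_one, fun η hη => ⟨fun _ => (charDegree (η : H → ℂ) : ℤ), fun g hg => ?_⟩,
    fun g g' hg hg' => ?_, fun a ha => ?_⟩
  · simp [hline η hη g hg, charDegree_cast]
  · rw [hconst g g' hg hg', hval]
    simp
  · funext i
    simpa [Subsingleton.elim i 0] using ha 1 h1reg

end Cfsg.Agent.SmallSection
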